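import Mathlib
import Cfsg.Agent.Lib.Fus.CaminaPairBasic
import Cfsg.Agent.Lib.Grp.BryTwo.Layers

/-!
The centre of a non-abelian normal subgroup inside the derived subgroup of a `2`-group is not cyclic.
-/

set_option autoImplicit false
set_option linter.style.haveILetI false
set_option linter.unusedSectionVars false

namespace Cfsg.Agent.Grp.BryD

open Subgroup
open scoped commutatorElement

variable {X : Type*} [Group X] [Finite X]

/-- If every conjugate of `w` is a central multiple of it, the derived subgroup centralizes `w`. -/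
theorem commutator_fixes {w : X} (h : ∀ x : X, ∃ c, c ∈ center X ∧ x * w * x⁻¹ = c * w) :
    ∀ g ∈ (⁅(⊤ : Subgroup X), (⊤ : Subgroup X)⁆ : Subgroup X), Commute g w := by
  intro g hg
  refine mem_centralizer_singleton_iff.mp (commutator_le.mpr (fun x _ y _ => ?_) hg)
  rw [mem_centralizer_singleton_iff]
  have e : ∀ u v : X, ∀ cu ∈ center X, ∀ cv, u * w * u⁻¹ = cu * w → v * w * v⁻¹ = cv * w → cv ∈ center X →
      u * v * w * (u * v)⁻¹ = cu * cv * w := fun u v cu hcu cv hu hv hcv => by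
    rw [show u * v * w * (u * v)⁻¹ = u * (v * w * v⁻¹) * u⁻¹ by group, hv,
      show u * (cv * w) * u⁻¹ = u * cv * u⁻¹ * (u * w * u⁻¹) by group, hu,
      mem_center_iff.mp hcv u, mul_inv_cancel_right, ← mul_assoc, mem_center_iff.mp hcu cv]
  obtain ⟨c', hc', hx'⟩ := h x⁻¹
  obtain ⟨d', hd', hy'⟩ := h y⁻¹
  have h5 := e x⁻¹ y⁻¹ c' hc' d' hx' hy' hd'
  have h6 := e y⁻¹ x⁻¹ d' hd' c' hy' hx' hc'
  rw [mem_center_iff.mp hd' c'] at h5
  rw [← h6] at h5
  calc ⁅x, y⁆ * w = (y⁻¹ * x⁻¹)⁻¹ * (x⁻¹ * y⁻¹ * w * (x⁻¹ * y⁻¹)⁻¹) * (y⁻¹ * x⁻¹) * ⁅x, y⁆ := by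
        rw [commutatorElement_def]; group
    _ = (y⁻¹ * x⁻¹)⁻¹ * (y⁻¹ * x⁻¹ * w * (y⁻¹ * x⁻¹)⁻¹) * (y⁻¹ * x⁻¹) * ⁅x, y⁆ := by rw [h5]
    _ = w * ⁅x, y⁆ := by group

/-- A second central involution of a normal subgroup, almost central in the whole group. -/
theorem exists_center_involution (hX : IsPGroup 2 X) {N : Subgroup X} [N.Normal]
    (hN : N ≤ (⁅(⊤ : Subgroup X), (⊤ : Subgroup X)⁆ : Subgroup X)) {a : X} (ha : a ∈ ⁅N, N⁆) (ha1 : a ≠ 1) (haa : a * a = 1)
    (hac : a ∈ center X) :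
    ∃ y ∈ N, y * y = 1 ∧ y ≠ 1 ∧ y ≠ a ∧ (∀ n ∈ N, Commute n y) ∧
      ∀ x : X, x * y * x⁻¹ = y ∨ x * y * x⁻¹ = a * y := by
  classical
  haveI : Fact (Nat.Prime 2) := ⟨Nat.prime_two⟩
  set Z := N ⊓ centralizer (N : Set X) with hZ
  haveI : Z.Normal := inferInstance
  have hZc : ∀ z ∈ Z, ∀ n ∈ N, n * z = z * n := fun z hz n hn => mem_centralizer_iff.mp hz.2 n hn
  have haN : a ∈ N := (commutator_le.mpr fun p hp q hq =>
    N.mul_mem (N.mul_mem (N.mul_mem hp hq) (N.inv_mem hp)) (N.inv_mem hq)) ha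
  have haZ : a ∈ Z := ⟨haN, mem_centralizer_iff.mpr fun n _ => mem_center_iff.mp hac n⟩
  have hnotab : ¬ N ≤ Z := fun h => ha1 (mem_bot.mp ((commutator_le.mpr fun p hp q hq => by
    rw [mem_bot, commutatorElement_eq_one_iff_mul_comm]
    exact hZc q (h hq) p hp) ha))
  have key : ∃ v ∈ Z, v * v = 1 ∧ v ≠ 1 ∧ v ≠ a := by
    by_contra hall
    push Not at hall
    have hun : ∀ v ∈ Z, v * v = 1 → v = 1 ∨ v = a := fun v hv hv2 => by
      rcases eq_or_ne v 1 with h | h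
      · exact Or.inl h
      · exact Or.inr (hall v hv hv2 h)
    letI : CommGroup Z :=
      { (inferInstance : Group Z) with mul_comm := fun p q => Subtype.ext (hZc q q.2 p p.2.1) }
    haveI : IsCyclic Z := Fus.isCyclic_of_unique_order_prime (q := 2) (hX.to_subgroup Z) fun p q hp hq hp1 => by
      have h2 : ∀ t : Z, t ^ 2 = 1 → t = 1 ∨ (t : X) = a := fun t ht =>
        (hun t t.2 (by rw [← sq]; exact congrArg Subtype.val ht)).imp_left fun h => Subtype.ext h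
      rcases h2 q hq with h | h
      · rw [h]; exact one_mem _
      · rw [show q = p from Subtype.ext (h.trans ((h2 p hp).resolve_left hp1).symm)]
        exact mem_zpowers p
    -- an element of order two modulo the centre
    set π := QuotientGroup.mk' Z
    have hπs : Function.Surjective π := QuotientGroup.mk'_surjective _
    haveI : (N.map π).Normal := (inferInstance : N.Normal).map π hπs
    have hne : N.map π ≠ ⊥ := fun h => hnotab (by
      rwa [Subgroup.map_eq_bot_iff, QuotientGroup.ker_mk'] at h)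
    haveI := (Subgroup.nontrivial_iff_ne_bot _).mpr
      (Fus.GN.inf_center_ne_bot (hX.to_quotient Z) hne)
    obtain ⟨⟨q, hqN, hqc⟩, hq1⟩ := exists_ne (1 : ↥(N.map π ⊓ center (X ⧸ Z)))
    have hq1' : q ≠ 1 := fun e => hq1 (Subtype.ext e)
    obtain ⟨i, hi⟩ := IsPGroup.iff_orderOf.mp (hX.to_quotient Z) q
    have hi0 : i ≠ 0 := fun e => hq1' (orderOf_eq_one_iff.mp (by rw [hi, e, pow_zero]))
    set v := q ^ 2 ^ (i - 1) with hv
    have hv1 : v ≠ 1 := fun e => by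
      have h := orderOf_dvd_of_pow_eq_one e
      rw [hi, Nat.pow_dvd_pow_iff_le_right one_lt_two] at h
      omega
    have hvv : v * v = 1 := by
      rw [hv, ← pow_add, ← two_mul, ← pow_succ', show i - 1 + 1 = i by omega, ← hi, pow_orderOf_eq_one]
    obtain ⟨w, hwN, hw⟩ : v ∈ N.map π := Subgroup.pow_mem _ hqN _
    have hvc : v ∈ center (X ⧸ Z) := Subgroup.pow_mem _ hqc _
    have hwZ : w ∉ Z := fun h => hv1 (by rw [← hw]; exact (QuotientGroup.eq_one_iff w).mpr h)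
    have hw2 : w * w ∈ Z := (QuotientGroup.eq_one_iff _).mp (by
      show π (w * w) = 1
      rw [map_mul, hw, hvv])
    have hwx : ∀ x, x * w * x⁻¹ * w⁻¹ ∈ Z := fun x => (QuotientGroup.eq_one_iff _).mp (by
      show π (x * w * x⁻¹ * w⁻¹) = 1
      rw [map_mul, map_mul, map_mul, map_inv, map_inv, hw, mem_center_iff.mp hvc (π x),
        mul_inv_cancel_right, mul_inv_cancel])
    have hdone : ∀ w' ∈ N, w' ∉ Z → (∀ g ∈ (⁅(⊤ : Subgroup X), (⊤ : Subgroup X)⁆ : Subgroup X), Commute g w') → False := fun w' hw'N hw'Z hc =>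
      hw'Z ⟨hw'N, mem_centralizer_iff.mpr fun n hn => (hc n (hN hn)).eq⟩
    have caseA : ∀ z0 ∈ Z, w * w = z0 * z0 → False := fun z0 hz0 he => by
      set w' := w * z0⁻¹ with hw'
      have hcw : Commute w z0 := hZc z0 hz0 w hwN
      have hw'2 : w' * w' = 1 := by
        rw [hw', show w * z0⁻¹ * (w * z0⁻¹) = w * (z0⁻¹ * w) * z0⁻¹ by group, ← hcw.inv_right.eq,
          show w * (w * z0⁻¹) * z0⁻¹ = w * w * (z0⁻¹ * z0⁻¹) by group, he]
        group
      have hw'N : w' ∈ N := N.mul_mem hwN (N.inv_mem hz0.1)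
      have hw'Z : w' ∉ Z := fun h => hwZ (by simpa [hw'] using Z.mul_mem h hz0)
      refine hdone w' hw'N hw'Z (commutator_fixes fun x => ?_)
      set c := x * w' * x⁻¹ * w'⁻¹ with hc
      have hcZ : c ∈ Z := by
        have h1 : c = (x * w * x⁻¹ * w⁻¹) * (w * ((x * z0⁻¹ * x⁻¹) * z0) * w⁻¹) := by rw [hc, hw']; group
        rw [h1]
        exact Z.mul_mem (hwx x) ((inferInstance : Z.Normal).conj_mem _
          (Z.mul_mem ((inferInstance : Z.Normal).conj_mem _ (Z.inv_mem hz0) x) hz0) w)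
      have hc2 : c * c = 1 := by
        have h1 : (c * w') * (c * w') = 1 := by
          rw [hc, inv_mul_cancel_right, show x * w' * x⁻¹ * (x * w' * x⁻¹) = x * (w' * w') * x⁻¹ by group,
            hw'2, mul_one, mul_inv_cancel]
        calc c * c = c * c * (w' * w') := by rw [hw'2, mul_one]
          _ = c * (w' * c) * w' := by rw [hZc c hcZ w' hw'N]; group
          _ = (c * w') * (c * w') := by group
          _ = 1 := h1
      refine ⟨c, ?_, by rw [hc, inv_mul_cancel_right]⟩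
      rcases hun c hcZ hc2 with h | h <;> rw [h]
      exacts [one_mem _, hac]
    obtain ⟨⟨g, hgZ⟩, hg⟩ := IsCyclic.exists_generator (α := Z)
    obtain ⟨n, hn⟩ := (isOfFinOrder_of_finite (⟨g, hgZ⟩ : Z)).mem_powers_iff_mem_zpowers.mpr (hg ⟨w * w, hw2⟩)
    have hn' : g ^ n = w * w := congrArg Subtype.val hn
    rcases Nat.even_or_odd n with ⟨m, hm⟩ | hodd
    · exact caseA (g ^ m) (Z.pow_mem hgZ m) (by rw [← pow_add, ← hm, hn'])
    · obtain ⟨e, he⟩ := hX g
      obtain ⟨j, hj⟩ := exists_pow_eq_self_of_coprime (x := g) (n := n)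
        ((Nat.coprime_two_left.mpr hodd).pow_left e |>.symm.coprime_dvd_right (orderOf_dvd_of_pow_eq_one he))
      have hpow : ∀ z ∈ Z, ∃ i : ℕ, z = w ^ i := fun z hz => by
        obtain ⟨l, hl⟩ := (isOfFinOrder_of_finite (⟨g, hgZ⟩ : Z)).mem_powers_iff_mem_zpowers.mpr (hg ⟨z, hz⟩)
        refine ⟨2 * (j * l), ?_⟩
        rw [pow_mul, sq, ← hn', pow_mul, hj]
        exact (congrArg Subtype.val hl).symm
      have hconj : ∀ x, ∃ i : ℕ, x * w * x⁻¹ = w ^ i := fun x => by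
        obtain ⟨i, hi'⟩ := hpow _ (hwx x)
        exact ⟨i + 1, by rw [pow_succ, ← hi', inv_mul_cancel_right]⟩
      refine hdone w hwN hwZ fun g' hg' => ?_
      refine mem_centralizer_singleton_iff.mp (commutator_le.mpr (fun x _ y _ => ?_) hg')
      rw [mem_centralizer_singleton_iff]
      obtain ⟨p, hp⟩ := hconj x⁻¹
      obtain ⟨q, hq⟩ := hconj y⁻¹
      have hxy : ∀ u v : X, ∀ p q : ℕ, u * w * u⁻¹ = w ^ p → v * w * v⁻¹ = w ^ q →
          u * v * w * (u * v)⁻¹ = w ^ (p * q) := fun u v p q hu hv => by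
        rw [show u * v * w * (u * v)⁻¹ = u * (v * w * v⁻¹) * u⁻¹ by group, hv, ← conj_pow, hu, ← pow_mul]
      have h5 := hxy x⁻¹ y⁻¹ p q hp hq
      have h6 := hxy y⁻¹ x⁻¹ q p hq hp
      rw [mul_comm p q, ← h6] at h5
      calc ⁅x, y⁆ * w = (y⁻¹ * x⁻¹)⁻¹ * (x⁻¹ * y⁻¹ * w * (x⁻¹ * y⁻¹)⁻¹) * (y⁻¹ * x⁻¹) * ⁅x, y⁆ := by
            rw [commutatorElement_def]; group
        _ = (y⁻¹ * x⁻¹)⁻¹ * (y⁻¹ * x⁻¹ * w * (y⁻¹ * x⁻¹)⁻¹) * (y⁻¹ * x⁻¹) * ⁅x, y⁆ := by rw [h5]
        _ = w * ⁅x, y⁆ := by group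
  obtain ⟨v, hvZ, hv2, hv1, hva⟩ := key
  -- make it almost central
  let Ω : Subgroup X :=
    { carrier := {z | z ∈ Z ∧ z * z = 1}
      one_mem' := ⟨one_mem _, one_mul 1⟩
      mul_mem' := fun {p q} hp hq => ⟨Z.mul_mem hp.1 hq.1, by
        rw [show p * q * (p * q) = p * (q * p) * q by group, hZc p hp.1 q hq.1.1,
          show p * (p * q) * q = (p * p) * (q * q) by group, hp.2, hq.2, one_mul]⟩
      inv_mem' := fun {p} hp => ⟨Z.inv_mem hp.1, by rw [← mul_inv_rev, hp.2, inv_one]⟩ }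
  haveI : Ω.Normal := ⟨fun p hp x => ⟨(inferInstance : Z.Normal).conj_mem p hp.1 x, by
    rw [show x * p * x⁻¹ * (x * p * x⁻¹) = x * (p * p) * x⁻¹ by group, hp.2, mul_one, mul_inv_cancel]⟩⟩
  haveI : (zpowers a).Normal := ⟨fun p hp x => by
    have hpc : p ∈ center X := zpowers_le.mpr hac hp
    rw [mem_center_iff.mp hpc x, mul_inv_cancel_right]; exact hp⟩
  have hza : ∀ p ∈ zpowers a, p = 1 ∨ p = a := fun p hp => by
    obtain ⟨n, rfl⟩ := (isOfFinOrder_of_finite a).mem_powers_iff_mem_zpowers.mpr hp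
    rcases Nat.even_or_odd n with ⟨m, rfl⟩ | ⟨m, rfl⟩
    · exact Or.inl (by show a ^ (m + m) = 1; rw [← two_mul, pow_mul, sq, haa, one_pow])
    · exact Or.inr (by show a ^ (2 * m + 1) = a; rw [pow_succ, pow_mul, sq, haa, one_pow, one_mul])
  set π := QuotientGroup.mk' (zpowers a)
  have hπs : Function.Surjective π := QuotientGroup.mk'_surjective _
  haveI : (Ω.map π).Normal := (inferInstance : Ω.Normal).map π hπs
  have hne : Ω.map π ≠ ⊥ := fun h => by
    rw [Subgroup.map_eq_bot_iff, QuotientGroup.ker_mk'] at h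
    rcases hza v (h ⟨hvZ, hv2⟩) with e | e
    exacts [hv1 e, hva e]
  haveI := (Subgroup.nontrivial_iff_ne_bot _).mpr
    (Fus.GN.inf_center_ne_bot (hX.to_quotient (zpowers a)) hne)
  obtain ⟨⟨q, hqΩ, hqc⟩, hq1⟩ := exists_ne (1 : ↥(Ω.map π ⊓ center (X ⧸ zpowers a)))
  obtain ⟨y, hy, hyq⟩ := hqΩ
  have hyZ : y ∉ zpowers a := fun h => hq1 (Subtype.ext (hyq.symm.trans ((QuotientGroup.eq_one_iff y).mpr h)))
  refine ⟨y, hy.1.1, hy.2, fun e => hyZ (e ▸ one_mem _), fun e => hyZ (e ▸ mem_zpowers a),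
    fun n hn => hZc y hy.1 n hn, fun x => ?_⟩
  have h1 : x * y * x⁻¹ * y⁻¹ ∈ zpowers a := (QuotientGroup.eq_one_iff _).mp (by
    show π (x * y * x⁻¹ * y⁻¹) = 1
    rw [map_mul, map_mul, map_mul, map_inv, map_inv, hyq, mem_center_iff.mp hqc (π x), mul_inv_cancel_right,
      mul_inv_cancel])
  rcases hza _ h1 with e | e
  · exact Or.inl (mul_inv_eq_one.mp e)
  · exact Or.inr (mul_inv_eq_iff_eq_mul.mp e)

end Cfsg.Agent.Grp.BryD
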