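import Mathlib
import Cfsg.Agent.Lib.Grp.Frattini

/-!
The derived series of a subgroup and the condition that products of augmentation factors along it vanish.
-/

set_option autoImplicit false
set_option linter.style.haveILetI false
set_option linter.unusedSectionVars false

namespace Cfsg.Agent.Grp.BryD

open Subgroup
open scoped commutatorElement

section Series

variable {G : Type*} [Group G]

/-- The derived series of a subgroup, inside the ambient group. -/
def dser (P : Subgroup G) : ℕ → Subgroup G
  | 0 => P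
  | n + 1 => ⁅dser P n, dser P n⁆

theorem dser_succ (P : Subgroup G) (n : ℕ) : dser P (n + 1) = ⁅dser P n, dser P n⁆ := rfl

theorem commutator_le_self (A : Subgroup G) : ⁅A, A⁆ ≤ A :=
  commutator_le.mpr fun a ha b hb => A.mul_mem (A.mul_mem (A.mul_mem ha hb) (A.inv_mem ha)) (A.inv_mem hb)

theorem dser_succ_le (P : Subgroup G) (n : ℕ) : dser P (n + 1) ≤ dser P n := commutator_le_self _

theorem dser_anti (P : Subgroup G) : Antitone (dser P) := antitone_nat_of_succ_le (dser_succ_le P)

theorem dser_le (P : Subgroup G) (n : ℕ) : dser P n ≤ P := dser_anti P (Nat.zero_le n)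

theorem dser_mono {P Q : Subgroup G} (h : P ≤ Q) : ∀ n, dser P n ≤ dser Q n
  | 0 => h
  | n + 1 => commutator_mono (dser_mono h n) (dser_mono h n)

theorem dser_add (P : Subgroup G) (j : ℕ) : ∀ i, dser (dser P j) i = dser P (j + i)
  | 0 => rfl
  | i + 1 => by rw [dser_succ, dser_add P j i, ← add_assoc, dser_succ]

theorem map_dser {G' : Type*} [Group G'] (f : G →* G') (P : Subgroup G) :
    ∀ n, (dser P n).map f = dser (P.map f) n
  | 0 => rfl
  | n + 1 => by rw [dser_succ, map_commutator, map_dser f P n, dser_succ]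

theorem dser_top_eq : ∀ n, dser (⊤ : Subgroup G) n = derivedSeries G n
  | 0 => rfl
  | n + 1 => by rw [dser_succ, dser_top_eq n, derivedSeries_succ]

theorem dser_eq_map (P : Subgroup G) (n : ℕ) : dser P n = (derivedSeries ↥P n).map P.subtype := by
  rw [← dser_top_eq, map_dser, ← MonoidHom.range_eq_map, range_subtype]

theorem map_subtype_dser_top (P : Subgroup G) (n : ℕ) :
    (dser (⊤ : Subgroup ↥P) n).map P.subtype = dser P n := by
  rw [map_dser, ← MonoidHom.range_eq_map, range_subtype]

theorem coe_mem_dser {P : Subgroup G} {n : ℕ} {x : ↥P} (hx : x ∈ dser (⊤ : Subgroup ↥P) n) :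
    (x : G) ∈ dser P n := by
  rw [← map_subtype_dser_top]; exact ⟨x, hx, rfl⟩

theorem mem_dser_top {P : Subgroup G} {n : ℕ} {x : G} (hx : x ∈ dser P n) :
    ∃ h : x ∈ P, (⟨x, h⟩ : ↥P) ∈ dser (⊤ : Subgroup ↥P) n := by
  rw [← map_subtype_dser_top] at hx
  obtain ⟨y, hy, rfl⟩ := hx
  exact ⟨y.2, hy⟩

theorem conj_dser {g : G} {P : Subgroup G} (h : ∀ p ∈ P, g * p * g⁻¹ ∈ P) {n : ℕ} {x : G}
    (hx : x ∈ dser P n) : g * x * g⁻¹ ∈ dser P n := by
  have h1 : P.map (MulAut.conj g).toMonoidHom ≤ P := by
    rintro _ ⟨p, hp, rfl⟩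
    exact h p hp
  have h2 : (dser P n).map (MulAut.conj g).toMonoidHom ≤ dser P n := by
    rw [map_dser]; exact dser_mono h1 n
  exact h2 ⟨x, hx, rfl⟩

theorem dser_conj_of_mem {P : Subgroup G} {g : G} (hg : g ∈ P) {n : ℕ} {x : G} (hx : x ∈ dser P n) :
    g * x * g⁻¹ ∈ dser P n :=
  conj_dser (fun _ hp => P.mul_mem (P.mul_mem hg hp) (P.inv_mem hg)) hx

/-- In a `2`-group a subgroup covering a level modulo the next one contains the level. -/
theorem dser_le_of_cover [Finite G] {P : Subgroup G} (hP : IsPGroup 2 P) {n : ℕ} {A : Subgroup G}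
    (h : ∀ s ∈ dser P n, ∃ g ∈ dser P (n + 1), g * s ∈ A) : dser P n ≤ A := by
  haveI : Fact (Nat.Prime 2) := ⟨Nat.prime_two⟩
  set D := dser P n with hD
  have hF : ∀ g ∈ dser P (n + 1), ∃ hg : g ∈ D, (⟨g, hg⟩ : ↥D) ∈ frattini ↥D := fun g hg => by
    have h1 : g ∈ dser D 1 := by rw [hD, dser_add]; exact hg
    obtain ⟨hgD, hgt⟩ := mem_dser_top h1
    exact ⟨hgD, pGroup_commutator_le_frattini (hP.to_le (dser_le P n)) hgt⟩
  have htop : A.subgroupOf D ⊔ frattini ↥D = ⊤ := by
    refine top_le_iff.mp fun s _ => ?_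
    obtain ⟨g, hg, hgs⟩ := h s s.2
    obtain ⟨hgD, hgF⟩ := hF g hg
    have h1 : (⟨g, hgD⟩ : ↥D) * s ∈ A.subgroupOf D := hgs
    have h2 := mul_mem (mem_sup_right (S := A.subgroupOf D) (inv_mem hgF)) (mem_sup_left h1)
    rwa [inv_mul_cancel_left] at h2
  exact subgroupOf_eq_top.mp (frattini_nongenerating htop)

end Series

section Ops

variable {K : Type*} [Field K] {W : Type*} [AddCommGroup W] [Module K W] {X : Type*} [Group X]

/-- The product `(π (f (n-1)) - 1) ⋯ (π (f 0) - 1)`. -/
def prodOp (π : X →* Module.End K W) (f : ℕ → X) : ℕ → Module.End K W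
  | 0 => 1
  | n + 1 => (π (f n) - 1) * prodOp π f n

theorem prodOp_succ (π : X →* Module.End K W) (f : ℕ → X) (n : ℕ) :
    prodOp π f (n + 1) = (π (f n) - 1) * prodOp π f n := rfl

theorem prodOp_congr (π : X →* Module.End K W) {f f' : ℕ → X} {n : ℕ} (h : ∀ i < n, f i = f' i) :
    prodOp π f n = prodOp π f' n := by
  induction n with
  | zero => rfl
  | succ n ih =>
    rw [prodOp_succ, prodOp_succ, h n n.lt_succ_self, ih fun i hi => h i (Nat.lt_succ_of_lt hi)]

theorem prodOp_split (π : X →* Module.End K W) (f : ℕ → X) (j : ℕ) :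
    ∀ n, prodOp π f (j + n) = prodOp π (fun i => f (j + i)) n * prodOp π f j
  | 0 => (one_mul _).symm
  | n + 1 => by rw [← add_assoc, prodOp_succ, prodOp_succ, prodOp_split π f j n, mul_assoc]

theorem prodOp_comp {G : Type*} [Group G] (π : G →* Module.End K W) (φ : X →* G) (f : ℕ → X) :
    ∀ n, prodOp (π.comp φ) f n = prodOp π (fun i => φ (f i)) n
  | 0 => rfl
  | n + 1 => by rw [prodOp_succ, prodOp_succ, prodOp_comp π φ f n]; rfl

theorem commute_prodOp (π : X →* Module.End K W) {T : Module.End K W} {f : ℕ → X} {n : ℕ}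
    (h : ∀ i < n, Commute T (π (f i))) : Commute T (prodOp π f n) := by
  induction n with
  | zero => exact Commute.one_right T
  | succ n ih =>
    exact ((h n n.lt_succ_self).sub_right (Commute.one_right T)).mul_right
      (ih fun i hi => h i (Nat.lt_succ_of_lt hi))

theorem prodOp_intertwine {W' : Type*} [AddCommGroup W'] [Module K W'] {π : X →* Module.End K W}
    {π' : X →* Module.End K W'} (φ : W' →ₗ[K] W) (f : ℕ → X) (h : ∀ i v, φ (π' (f i) v) = π (f i) (φ v)) :
    ∀ n v, φ (prodOp π' f n v) = prodOp π f n (φ v)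
  | 0, v => rfl
  | n + 1, v => by
    rw [prodOp_succ, prodOp_succ, Module.End.mul_apply, Module.End.mul_apply, LinearMap.sub_apply,
      LinearMap.sub_apply, Module.End.one_apply, Module.End.one_apply, map_sub, h,
      prodOp_intertwine φ f h n v]

theorem prodOp_list (π : X →* Module.End K W) (f : ℕ → X) :
    ∀ n, prodOp π f n = ((List.range n).reverse.map fun i => π (f i) - 1).prod
  | 0 => rfl
  | n + 1 => by
    rw [prodOp_succ, prodOp_list π f n, List.range_succ, List.reverse_append]
    simp

/-- All products along the first `e` levels of `P` vanish. -/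
def Nilp (π : X →* Module.End K W) (P : Subgroup X) (e : ℕ) : Prop :=
  ∀ f : ℕ → X, (∀ i, f i ∈ dser P i) → prodOp π f e = 0

theorem Nilp.comp {G : Type*} [Group G] {π : G →* Module.End K W} {P : Subgroup G} {e : ℕ}
    (h : Nilp π P e) (φ : X →* G) {Q : Subgroup X} (hQ : Q.map φ ≤ P) : Nilp (π.comp φ) Q e := fun f hf => by
  rw [prodOp_comp]
  refine h _ fun i => dser_mono hQ i ?_
  rw [← map_dser]
  exact ⟨f i, hf i, rfl⟩

/-- `T` kills all products along the first `j` levels. -/
def Kills (π : X →* Module.End K W) (P : Subgroup X) (j : ℕ) (T : Module.End K W) : Prop :=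
  ∀ f : ℕ → X, (∀ i, f i ∈ dser P i) → T * prodOp π f j = 0

theorem Kills.succ {π : X →* Module.End K W} {P : Subgroup X} {j : ℕ} {T : Module.End K W}
    (h : Kills π P (j + 1) T) {g : X} (hg : g ∈ dser P j) : Kills π P j (T * (π g - 1)) := by
  intro f hf
  classical
  have h1 := h (Function.update f j g) fun i => by
    by_cases hi : i = j
    · subst hi; rwa [Function.update_self]
    · rw [Function.update_of_ne hi]; exact hf i
  rw [prodOp_succ, Function.update_self, prodOp_congr π
    (fun i hi => Function.update_of_ne (Nat.ne_of_lt hi) g f : ∀ i < j, Function.update f j g i = f i)] at h1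
  rwa [mul_assoc]

/-- A killer of the first `j` levels is fixed by the `j`-th level. -/
theorem Kills.fixed {π : X →* Module.End K W} {P : Subgroup X} : ∀ {j : ℕ} {T : Module.End K W},
    Kills π P j T → ∀ g ∈ dser P j, T * π g = T
  | 0, T, h, g, _ => by
    have h0 := h (fun _ => 1) fun i => one_mem _
    rw [show prodOp π (fun _ => (1 : X)) 0 = 1 from rfl, mul_one] at h0
    rw [h0, zero_mul]
  | j + 1, T, h, g, hg => by
    have key : ∀ a ∈ dser P j, ∀ b ∈ dser P j, T * (π a - 1) * (π b - 1) = 0 := fun a ha b hb => by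
      rw [mul_sub, mul_one, (h.succ ha).fixed b hb, sub_self]
    let A : Subgroup X :=
      { carrier := {g | T * π g = T}
        one_mem' := by show T * π 1 = T; rw [map_one, mul_one]
        mul_mem' := fun {a b} ha hb => by
          show T * π (a * b) = T
          rw [map_mul, ← mul_assoc, show T * π a = T from ha]; exact hb
        inv_mem' := fun {a} ha => by
          show T * π a⁻¹ = T
          have := congrArg (· * π a⁻¹) (show T * π a = T from ha)
          simp only [mul_assoc, ← map_mul, mul_inv_cancel, map_one, mul_one] at this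
          exact this.symm }
    refine (commutator_le (H₃ := A)).mpr (fun a ha b hb => ?_) (dser_succ P j ▸ hg)
    show T * π ⁅a, b⁆ = T
    have h1 : ∀ a b : X, T * (π a - 1) * (π b - 1) = T * π (a * b) - T * π a - T * π b + T := fun a b => by
      rw [map_mul]; noncomm_ring
    have e : T * π (a * b) = T * π (b * a) := by
      have h2 := key a ha b hb
      have h3 := key b hb a ha
      rw [h1] at h2 h3
      calc T * π (a * b) = (T * π (a * b) - T * π a - T * π b + T) + (T * π a + T * π b - T) := by abel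
        _ = (T * π (b * a) - T * π b - T * π a + T) + (T * π a + T * π b - T) := by rw [h2, h3]
        _ = T * π (b * a) := by abel
    calc T * π ⁅a, b⁆ = T * π (a * b) * π (b * a)⁻¹ := by
          rw [mul_assoc, ← map_mul]; congr 2; rw [commutatorElement_def]; group
      _ = T := by rw [e, mul_assoc, ← map_mul, mul_inv_cancel, map_one, mul_one]

theorem Nilp.kills {π : X →* Module.End K W} {P : Subgroup X} {e : ℕ} (h : Nilp π P e) :
    Kills π P e 1 := fun f hf => by rw [one_mul]; exact h f hf

theorem Nilp.eq_one {π : X →* Module.End K W} {P : Subgroup X} {e : ℕ} (h : Nilp π P e)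
    {g : X} (hg : g ∈ dser P e) : π g = 1 := by
  simpa using h.kills.fixed g hg

theorem Nilp.quadratic {π : X →* Module.End K W} {P : Subgroup X} {e : ℕ} (h : Nilp π P (e + 1))
    {a b : X} (ha : a ∈ dser P e) (hb : b ∈ dser P e) : (π a - 1) * (π b - 1) = 0 := by
  have h1 := (h.kills.succ ha).fixed b hb
  rw [one_mul] at h1
  rw [mul_sub, mul_one, h1, sub_self]

end Ops

end Cfsg.Agent.Grp.BryD
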