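import Mathlib
import Cfsg.Agent.Lib.Grp.BryTwo.Plane
import Cfsg.Agent.Lib.Grp.BryDer.Levels
import Cfsg.Agent.Lib.Grp.DerivedLengthLinear

/-!
A projective representation of a symplectic group of odd exponent in characteristic two, normalized by a
`2`-group of isometries.
-/

set_option autoImplicit false
set_option linter.style.haveILetI false
set_option linter.unusedSectionVars false

namespace Cfsg.Agent.Grp.BryD

open Subgroup
open Cfsg.Agent.Grp.Gross (Form Isom mov mem_mov)

universe u v w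

variable {K : Type*} [Field K] [CharP K 2] {S : Type u} [CommGroup S] [Finite S] {r : ℕ} {β : S → S → K}
  {W : Type v} [AddCommGroup W] [Module K W] {X : Type w} [Group X] [Finite X]

/-- The units `P` of `W` normalized by `X`. -/
structure Sys (β : S → S → K) (σ : X →* MulAut S) (π : X →* Module.End K W) (P : S → Module.End K W) :
    Prop where
  two : IsPGroup 2 X
  iso : ∀ x, Isom β (σ x)
  unit : ∀ u, IsUnit (P u)
  mul : ∀ u v, ∃ c : K, c ≠ 0 ∧ P u * P v = c • P (u * v)
  swap : ∀ u v, P u * P v = β u v • (P v * P u)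
  conj : ∀ x u, ∃ c : K, c ≠ 0 ∧ π x * P u = c • (P (σ x u) * π x)

theorem end_add_self (T : Module.End K W) : T + T = 0 := LinearMap.ext fun v => by
  rw [LinearMap.add_apply, ← two_smul K (T v), CharTwo.two_eq_zero, zero_smul, LinearMap.zero_apply]

theorem end_neg_eq (T : Module.End K W) : -T = T := neg_eq_of_add_eq_zero_left (end_add_self T)

variable {σ : X →* MulAut S} {π : X →* Module.End K W} {P : S → Module.End K W}

theorem Sys.pow_two_eq_one (Y : Sys β σ π P) (x : X) : ∃ m : ℕ, x ^ 2 ^ m = 1 := Y.two x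

theorem Sys.map_unit (π : X →* Module.End K W) (x : X) : IsUnit (π x) := (Group.isUnit x).map π

theorem Sys.ne_zero [Nontrivial W] (Y : Sys β σ π P) (u : S) : P u ≠ 0 := by
  intro h
  obtain ⟨v, hv⟩ := exists_ne (0 : W)
  obtain ⟨g, hg⟩ := (Y.unit u).exists_left_inv
  apply hv
  rw [← Module.End.one_apply (R := K) v, ← hg, h, mul_zero, LinearMap.zero_apply]

theorem Sys.one_smul (Y : Sys β σ π P) : ∃ c : K, c ≠ 0 ∧ P 1 = c • 1 := by
  obtain ⟨c, hc, h⟩ := Y.mul 1 1
  rw [mul_one] at h
  refine ⟨c, hc, ?_⟩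
  apply (Y.unit 1).mul_left_cancel
  rw [h, mul_smul_comm, mul_one]

theorem Sys.commute_of_form (Y : Sys β σ π P) {u v : S} (h : β u v = 1) : Commute (P u) (P v) := by
  show P u * P v = P v * P u
  rw [Y.swap, h, _root_.one_smul]

/-- Elements fixing `u` commute with its operator. -/
theorem Sys.commute_fix [Nontrivial W] (Y : Sys β σ π P) {x : X} {u : S} (h : σ x u = u) :
    Commute (π x) (P u) := by
  obtain ⟨c, hc, hx⟩ := Y.conj x u
  rw [h] at hx
  have hpow : ∀ n : ℕ, π (x ^ n) * P u = c ^ n • (P u * π (x ^ n)) := by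
    intro n
    induction n with
    | zero => simp
    | succ n ih =>
      rw [pow_succ x n, map_mul, mul_assoc, hx, mul_smul_comm, ← mul_assoc, ih, smul_mul_assoc,
        smul_smul, mul_assoc, pow_succ' c n]
  obtain ⟨m, hm⟩ := Y.pow_two_eq_one x
  have h1 := hpow (2 ^ m)
  rw [hm, map_one, one_mul, mul_one] at h1
  have h2 : c ^ 2 ^ m = 1 := smul_left_injective K (Y.ne_zero u)
    (show c ^ 2 ^ m • P u = (1 : K) • P u by rw [_root_.one_smul, ← h1])
  have h3 : c = 1 := by
    have h4 : (c - 1) ^ 2 ^ m = 0 := by rw [sub_pow_char_pow, h2, one_pow, sub_self]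
    exact sub_eq_zero.mp (eq_zero_of_pow_eq_zero h4)
  rw [h3, _root_.one_smul] at hx
  exact hx

theorem Sys.commute_fix_sub [Nontrivial W] (Y : Sys β σ π P) {x : X} {u : S} (h : σ x u = u) :
    Commute (π x - 1) (P u) := (Y.commute_fix h).sub_left (Commute.one_left _)

/-- An element acting trivially on `W` fixes everything. -/
theorem Sys.fix_of_eq_one [Nontrivial W] (Y : Sys β σ π P) (F : Form r β) {x : X} (h : π x = 1) :
    σ x = 1 := by
  refine MulEquiv.ext fun u => ?_
  obtain ⟨c, hc, hx⟩ := Y.conj x u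
  rw [h, one_mul, mul_one] at hx
  rw [MulAut.one_apply]
  by_contra hne
  obtain ⟨v, hv⟩ := F.nd ((σ x u)⁻¹ * u) fun e => hne (inv_mul_eq_one.mp e)
  apply hv
  have h1 := Y.swap u v
  rw [hx, smul_mul_assoc, mul_smul_comm, Y.swap (σ x u) v, smul_smul, smul_smul] at h1
  have h2 : c * β (σ x u) v = β u v * c := by
    refine smul_left_injective K (fun e => ?_ : P v * P (σ x u) ≠ 0) h1
    obtain ⟨g, hg⟩ := ((Y.unit v).mul (Y.unit (σ x u))).exists_left_inv
    obtain ⟨w, hw⟩ := exists_ne (0 : W)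
    exact hw (by rw [← Module.End.one_apply (R := K) w, ← hg, e, mul_zero, LinearMap.zero_apply])
  rw [F.mulL]
  have h3 := F.inv_left_mul (σ x u) v
  rw [mul_comm (β u v)] at h2
  rwa [mul_left_cancel₀ hc h2] at h3

/-- The fundamental cancellation: a factor can be dropped from a vanishing product. -/
theorem Sys.strip [Nontrivial W] (Y : Sys β σ π P) {L R : Module.End K W} {g : X} {u t : S}
    (h0 : L * (π g - 1) * R = 0) (hgR : L * π g * R = L * R)
    (hLu : Commute L (P u)) (hRu : Commute R (P u)) (hLw : Commute L (P (u * (σ g u)⁻¹)))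
    (hLt : Commute L (P t)) (hRt : Commute R (P t)) (hβ : β t (u * (σ g u)⁻¹) ≠ 1) : L * R = 0 := by
  set w := u * (σ g u)⁻¹ with hw
  obtain ⟨c, hc, hx⟩ := Y.conj g u
  obtain ⟨c', hc', hm⟩ := Y.mul w (σ g u)
  rw [hw, inv_mul_cancel_right] at hm
  rw [← hw] at hm
  set μ := (c * c')⁻¹ with hμ
  have hμ0 : μ ≠ 0 := inv_ne_zero (mul_ne_zero hc hc')
  have hQ : P u * (π g - 1) = (μ • P w * π g - 1) * P u := by
    rw [mul_sub, sub_mul, mul_one, one_mul, smul_mul_assoc, smul_mul_assoc, mul_assoc (P w), hx,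
      mul_smul_comm, ← mul_assoc, hm, smul_mul_assoc, smul_smul, smul_smul, hμ,
      mul_assoc, inv_mul_cancel₀ (mul_ne_zero hc hc'), _root_.one_smul]
  have h1 : L * (μ • P w * π g - 1) * R = 0 := by
    apply (Y.unit u).mul_right_cancel
    rw [zero_mul]
    calc L * (μ • P w * π g - 1) * R * P u = L * ((μ • P w * π g - 1) * P u) * R := by
          rw [mul_assoc _ R, hRu.eq, ← mul_assoc]; simp only [mul_assoc]
      _ = P u * (L * (π g - 1) * R) := by rw [← hQ]; simp only [← mul_assoc, hLu.eq]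
      _ = 0 := by rw [h0, mul_zero]
  have h2 : (μ • P w - 1) * (L * R) = 0 := by
    have h3 : L * (μ • P w * π g - 1) * R = μ • P w * (L * π g * R) - L * R := by
      simp only [mul_sub, sub_mul, mul_one, smul_mul_assoc, mul_smul_comm, ← mul_assoc, hLw.eq]
    rw [h3, hgR] at h1
    rw [sub_mul, one_mul]; exact h1
  have h4 : (μ • (β t w • P w) - 1) * (L * R) = 0 := by
    apply (Y.unit t).mul_right_cancel
    rw [zero_mul]
    have e : P t * (μ • P w - 1) = (μ • (β t w • P w) - 1) * P t := by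
      simp only [mul_sub, sub_mul, mul_one, one_mul, mul_smul_comm, smul_mul_assoc, Y.swap t w, smul_smul]
    have hLR : Commute (L * R) (P t) := hLt.mul_left hRt
    rw [mul_assoc, hLR.eq, ← mul_assoc, ← e, mul_assoc, h2, mul_zero]
  have h5 : ((β t w - 1) * μ) • (P w * (L * R)) = 0 := by
    have h6 : (μ • (β t w • P w) - 1) * (L * R) - (μ • P w - 1) * (L * R) =
        ((β t w - 1) * μ) • (P w * (L * R)) := by
      rw [← sub_mul, sub_sub_sub_cancel_right, smul_smul, ← sub_smul, smul_mul_assoc]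
      congr 1
      ring
    rw [← h6, h4, h2, sub_zero]
  have h7 := (smul_eq_zero.mp h5).resolve_left (mul_ne_zero (sub_ne_zero.mpr hβ) hμ0)
  exact (Y.unit w).mul_right_eq_zero.mp h7

/-- A fixed element pairs non-trivially with a fixed element. -/
theorem exists_fix_pair (F : Form r β) (hr : Odd r) {φ : MulAut S} (hi : Isom β φ) {m : ℕ}
    (hm : φ ^ 2 ^ m = 1) {w : S} (hw : φ w = w) (hw1 : w ≠ 1) : ∃ t, φ t = t ∧ β t w ≠ 1 := by
  obtain ⟨b, hb⟩ := F.nd w hw1
  set t := ∏ i ∈ Finset.range (2 ^ m), (φ ^ i) b with ht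
  refine ⟨t, ?_, fun h => hb ?_⟩
  · have h1 : φ t * (φ ^ 0) b = t * (φ ^ 2 ^ m) b := by
      rw [ht, map_prod, ← Finset.prod_range_succ (fun i => (φ ^ i) b) (2 ^ m), Finset.prod_range_succ']
      congr 1
      exact Finset.prod_congr rfl fun i _ => by rw [pow_succ', MulAut.mul_apply]
    rw [hm, pow_zero] at h1
    exact mul_right_cancel h1
  · have hfix : ∀ n : ℕ, (φ ^ n) w = w := by
      intro n
      induction n with
      | zero => rfl
      | succ n ih => rw [pow_succ, MulAut.mul_apply, hw, ih]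
    have h2 : ∀ n : ℕ, β w (∏ i ∈ Finset.range n, (φ ^ i) b) = β w b ^ n := by
      intro n
      induction n with
      | zero => rw [Finset.prod_range_zero, F.one_right, pow_zero]
      | succ n ih =>
        have h3 : β w ((φ ^ n) b) = β w b := by
          conv_lhs => rw [← hfix n]
          exact Bry.isom_pow hi n w b
        rw [Finset.prod_range_succ, F.mulR, ih, h3, pow_succ]
    have h4 : β w b ^ 2 ^ m = 1 := by rw [← h2, ← ht]; exact F.swap_eq_one h
    have h5 := pow_gcd_eq_one.mpr ⟨h4, F.pow_r w b⟩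
    rwa [(hr.coprime_two_left.pow_left m : Nat.Coprime (2 ^ m) r), pow_one] at h5

end Cfsg.Agent.Grp.BryD
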