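import Mathlib
import Cfsg.Agent.Lib.Grp.BryDer.Sys

/-!
Restriction of a system to invariant data, and the passage to a faithful action.
-/

set_option autoImplicit false
set_option linter.style.haveILetI false
set_option linter.unusedSectionVars false

namespace Cfsg.Agent.Grp.BryD

open Subgroup
open Cfsg.Agent.Grp.Gross (Form Isom mov mem_mov)

universe u v w

variable {K : Type*} [Field K] [CharP K 2] {S : Type u} [CommGroup S] [Finite S] {r : ℕ} {β : S → S → K}
  {W : Type v} [AddCommGroup W] [Module K W] {X : Type w} [Group X] [Finite X]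
  {σ : X →* MulAut S} {π : X →* Module.End K W} {P : S → Module.End K W}

/-- The pairing on a subgroup. -/
theorem form_subgroup (F : Form r β) {H : Subgroup S}
    (hnd : ∀ h ∈ H, h ≠ 1 → ∃ b ∈ H, β h b ≠ 1) : Form r (fun a b : H => β a b) where
  exp s := Subtype.ext (F.exp s)
  mulL a b c := F.mulL a b c
  mulR a b c := F.mulR a b c
  alt a := F.alt a
  nd a ha := by
    obtain ⟨b, hb, h⟩ := hnd a a.2 fun e => ha (Subtype.ext e)
    exact ⟨⟨b, hb⟩, h⟩

/-- The restriction of a system. -/
theorem Sys.sub [FiniteDimensional K W] (Y : Sys β σ π P) (H : Subgroup S) (X1 : Subgroup X)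
    (W1 : Submodule K W) (hH : ∀ x ∈ X1, ∀ h ∈ H, σ x h ∈ H) (hx : ∀ x ∈ X1, ∀ v ∈ W1, π x v ∈ W1)
    (hP : ∀ h ∈ H, ∀ v ∈ W1, P h v ∈ W1) :
    ∃ (σ1 : X1 →* MulAut H) (π1 : X1 →* Module.End K W1) (P1 : H → Module.End K W1),
      Sys (fun a b : H => β a b) σ1 π1 P1 ∧ (∀ x h, ((σ1 x h : H) : S) = σ x h) ∧
      ∀ x v, ((π1 x v : W1) : W) = π x v := by
  have hsymm : ∀ (x : X1) (h : S), h ∈ H → (σ x)⁻¹ h ∈ H := fun x h hh => by
    rw [← map_inv]; exact hH _ (X1.inv_mem x.2) h hh
  let σ1 : X1 →* MulAut H :=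
    { toFun := fun x =>
        { toFun := fun h => ⟨σ x h, hH x x.2 h h.2⟩
          invFun := fun h => ⟨(σ x)⁻¹ h, hsymm x h h.2⟩
          left_inv := fun h => Subtype.ext (MulAut.inv_apply_self S (σ x) (h : S))
          right_inv := fun h => Subtype.ext (MulAut.apply_inv_self S (σ x) (h : S))
          map_mul' := fun a b => Subtype.ext (map_mul (σ x) (a : S) b) }
      map_one' := MulEquiv.ext fun h => Subtype.ext (by
        show σ ((1 : X1) : X) (h : S) = h
        rw [Subgroup.coe_one, map_one, MulAut.one_apply])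
      map_mul' := fun a b => MulEquiv.ext fun h => Subtype.ext (by
        show σ ((a * b : X1) : X) (h : S) = σ a (σ b h)
        rw [Subgroup.coe_mul, map_mul, MulAut.mul_apply]) }
  let π1 : X1 →* Module.End K W1 :=
    { toFun := fun x => (π x).restrict (hx x x.2)
      map_one' := LinearMap.ext fun v => Subtype.ext (by
        show π ((1 : X1) : X) (v : W) = v
        rw [Subgroup.coe_one, map_one, Module.End.one_apply])
      map_mul' := fun a b => LinearMap.ext fun v => Subtype.ext (by
        show π ((a * b : X1) : X) (v : W) = π a (π b v)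
        rw [Subgroup.coe_mul, map_mul, Module.End.mul_apply]) }
  let P1 : H → Module.End K W1 := fun h => (P h).restrict (hP h h.2)
  refine ⟨σ1, π1, P1, ⟨Y.two.to_subgroup X1, fun x a b => Y.iso x a b, fun h => ?_, fun a b => ?_,
    fun a b => LinearMap.ext fun v => Subtype.ext ?_, fun x h => ?_⟩, fun x h => rfl, fun x v => rfl⟩
  · refine (Module.End.isUnit_iff _).mpr ?_
    have hinj : Function.Injective (P1 h) := fun a b e =>
      Subtype.ext (((Module.End.isUnit_iff _).mp (Y.unit h)).1 (congrArg Subtype.val e))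
    exact ⟨hinj, LinearMap.injective_iff_surjective.mp hinj⟩
  · obtain ⟨c, hc, e⟩ := Y.mul a b
    exact ⟨c, hc, LinearMap.ext fun v => Subtype.ext (LinearMap.congr_fun e (v : W))⟩
  · exact LinearMap.congr_fun (Y.swap a b) (v : W)
  · obtain ⟨c, hc, e⟩ := Y.conj x h
    exact ⟨c, hc, LinearMap.ext fun v => Subtype.ext (LinearMap.congr_fun e (v : W))⟩

/-- Vanishing on a submodule. -/
theorem nilp_sub {X' : Type*} [Group X'] {W1 : Submodule K W} {π1 : X' →* Module.End K W1} {φ : X' →* X}
    (h : ∀ x (v : W1), ((π1 x v : W1) : W) = π (φ x) v) {Q : Subgroup X'} {e : ℕ}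
    (hv : ∀ f : ℕ → X', (∀ i, f i ∈ dser Q i) → ∀ v ∈ W1, prodOp π (fun i => φ (f i)) e v = 0) :
    Nilp π1 Q e := fun f hf => LinearMap.ext fun v => Subtype.ext (by
  have h1 := prodOp_intertwine (π := π.comp φ) (π' := π1) W1.subtype f (fun i w => h (f i) w) e v
  rw [prodOp_comp] at h1
  exact h1.trans (hv f hf v v.2))

/-- The fixed vectors of the kernel give a faithful system. -/
theorem Sys.exists_faithful [FiniteDimensional K W] [Nontrivial W] (Y : Sys β σ π P) {e : ℕ}
    (hN : Nilp π ⊤ e) :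
    ∃ (W1 : Submodule K W) (π1 : σ.range →* Module.End K W1) (P1 : S → Module.End K W1),
      Nontrivial W1 ∧ Sys β σ.range.subtype π1 P1 ∧ Nilp π1 ⊤ e := by
  classical
  haveI : Fact (Nat.Prime 2) := ⟨Nat.prime_two⟩
  set W1 : Submodule K W := ⨅ k : σ.ker, LinearMap.eqLocus (π (k : X)) 1 with hW1
  have hmem : ∀ {v : W}, v ∈ W1 ↔ ∀ k ∈ σ.ker, π k v = v := fun {v} => by
    simp [hW1, Submodule.mem_iInf, LinearMap.mem_eqLocus]
  have hx : ∀ x, ∀ v ∈ W1, π x v ∈ W1 := fun x v hv => hmem.mpr fun k hk => by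
    have h1 : x⁻¹ * k * x ∈ σ.ker := by
      have := (inferInstance : σ.ker.Normal).conj_mem k hk x⁻¹
      rwa [inv_inv] at this
    rw [← Module.End.mul_apply, ← map_mul, show k * x = x * (x⁻¹ * k * x) by group, map_mul,
      Module.End.mul_apply, hmem.mp hv _ h1]
  have hP : ∀ h, ∀ v ∈ W1, P h v ∈ W1 := fun h v hv => hmem.mpr fun k hk => by
    rw [← Module.End.mul_apply, (Y.commute_fix (x := k) (u := h) (by
      rw [MonoidHom.mem_ker.mp hk, MulAut.one_apply])).eq, Module.End.mul_apply, hmem.mp hv k hk]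
  haveI : Nontrivial W1 := by
    obtain ⟨v, hv, hfix⟩ := DerivedLength.exists_fixed_mod (p := 2) (Y.two.to_subgroup σ.ker)
      (π.comp σ.ker.subtype) (⊥ : Submodule K W)
      (fun g x hx' => by rw [(Submodule.mem_bot K).mp hx', map_zero]; exact zero_mem _) bot_ne_top
    refine Submodule.nontrivial_iff_ne_bot.mpr ((Submodule.ne_bot_iff _).mpr ⟨v, hmem.mpr fun k hk =>
      sub_eq_zero.mp ((Submodule.mem_bot K).mp (hfix ⟨k, hk⟩)), fun h0 => hv (h0 ▸ zero_mem _)⟩)
  let πw : X →* Module.End K W1 :=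
    { toFun := fun x => (π x).restrict (hx x)
      map_one' := LinearMap.ext fun v => Subtype.ext (by
        show π 1 (v : W) = v
        rw [map_one, Module.End.one_apply])
      map_mul' := fun a b => LinearMap.ext fun v => Subtype.ext (by
        show π (a * b) (v : W) = π a (π b v)
        rw [map_mul, Module.End.mul_apply]) }
  have hker : σ.rangeRestrict.ker ≤ πw.ker := by
    rw [MonoidHom.ker_rangeRestrict]
    exact fun k hk => LinearMap.ext fun v => Subtype.ext (hmem.mp v.2 k hk)
  have hwd : ∀ a b : X, σ.rangeRestrict a = σ.rangeRestrict b → πw a = πw b := fun a b e => by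
    have h1 : a⁻¹ * b ∈ σ.rangeRestrict.ker := by
      rw [MonoidHom.mem_ker, map_mul, map_inv, e, inv_mul_cancel]
    rw [show b = a * (a⁻¹ * b) by group, map_mul, MonoidHom.mem_ker.mp (hker h1), mul_one]
  choose sec hsec using σ.rangeRestrict_surjective
  let π1 : σ.range →* Module.End K W1 :=
    { toFun := fun y => πw (sec y)
      map_one' := by rw [hwd (sec 1) 1 (by rw [hsec, map_one]), map_one]
      map_mul' := fun a b => by
        rw [← map_mul]; exact hwd _ _ (by rw [hsec, map_mul, hsec, hsec]) }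
  have hπ1 : ∀ x : X, π1 (σ.rangeRestrict x) = πw x := fun x => hwd _ _ (hsec _)
  refine ⟨W1, π1, fun h => (P h).restrict (hP h), inferInstance, ⟨?_, ?_, fun h => ?_, fun a b => ?_,
    fun a b => LinearMap.ext fun v => Subtype.ext (LinearMap.congr_fun (Y.swap a b) (v : W)), ?_⟩, fun f hf => ?_⟩
  · exact Y.two.of_surjective σ.rangeRestrict σ.rangeRestrict_surjective
  · rintro ⟨_, x, rfl⟩
    exact Y.iso x
  · refine (Module.End.isUnit_iff _).mpr ?_
    have hinj : Function.Injective ((P h).restrict (hP h)) := fun a b e =>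
      Subtype.ext (((Module.End.isUnit_iff _).mp (Y.unit h)).1 (congrArg Subtype.val e))
    exact ⟨hinj, LinearMap.injective_iff_surjective.mp hinj⟩
  · obtain ⟨c, hc, e'⟩ := Y.mul a b
    exact ⟨c, hc, LinearMap.ext fun v => Subtype.ext (LinearMap.congr_fun e' (v : W))⟩
  · intro y h
    obtain ⟨x, rfl⟩ := σ.rangeRestrict_surjective y
    obtain ⟨c, hc, e'⟩ := Y.conj x h
    refine ⟨c, hc, ?_⟩
    rw [hπ1]
    exact LinearMap.ext fun v => Subtype.ext (LinearMap.congr_fun e' (v : W))
  · have hpre : ∀ i, ∃ g ∈ dser (⊤ : Subgroup X) i, σ.rangeRestrict g = f i := fun i => by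
      have h1 := hf i
      rw [← map_top_of_surjective _ σ.rangeRestrict_surjective, ← map_dser] at h1
      exact h1
    choose g hg hgf using hpre
    have e1 : prodOp π1 f e = prodOp πw g e := by
      rw [show f = fun i => σ.rangeRestrict (g i) from funext fun i => (hgf i).symm, ← prodOp_comp]
      congr 1
      exact MonoidHom.ext hπ1
    rw [e1]
    refine LinearMap.ext fun v => Subtype.ext ?_
    have h2 := prodOp_intertwine (π := π) (π' := πw) W1.subtype g (fun i w => rfl) e v
    exact h2.trans (by rw [hN g hg]; rfl)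

end Cfsg.Agent.Grp.BryD
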