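import Mathlib
import Cfsg.Agent.Lib.Grp.BryDer.Restrict
import Cfsg.Agent.Lib.Grp.HHModular

/-!
An element of order four inverting everything by its square, with cubic augmentation, lives on at most
nine points.
-/

set_option autoImplicit false
set_option linter.style.haveILetI false
set_option linter.unusedSectionVars false

namespace Cfsg.Agent.Grp.BryD

open Subgroup
open Cfsg.Agent.Grp.Gross (Form Isom mov mem_mov)
open scoped commutatorElement

universe u v w

variable {K : Type*} [Field K] [CharP K 2] {S : Type u} [CommGroup S] [Finite S] {r : ℕ} {β : S → S → K}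
  {W : Type v} [AddCommGroup W] [Module K W] {X : Type w} [Group X] [Finite X]
  {σ : X →* MulAut S} {π : X →* Module.End K W} {P : S → Module.End K W}

theorem scalar_inj [Nontrivial W] {c c' : K} (h : c • (1 : Module.End K W) = c' • 1) : c = c' := by
  obtain ⟨v, hv⟩ := exists_ne (0 : W)
  exact smul_left_injective K hv (by simpa using LinearMap.congr_fun h v)

/-- Powers of a product of elements commuting up to a scalar. -/
theorem skew_mul_pow {A B : Module.End K W} {b : K} (h : B * A = b • (A * B)) :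
    ∀ n : ℕ, (A * B) ^ n = b ^ n.choose 2 • (A ^ n * B ^ n)
  | 0 => by simp
  | n + 1 => by
    have hB : ∀ m : ℕ, B ^ m * A = b ^ m • (A * B ^ m) := by
      intro m
      induction m with
      | zero => simp
      | succ m ih =>
        rw [pow_succ B, mul_assoc, h, mul_smul_comm, ← mul_assoc, ih, smul_mul_assoc, smul_smul,
          mul_assoc, pow_succ' b]
    rw [pow_succ, skew_mul_pow h n, smul_mul_assoc, mul_assoc (A ^ n), ← mul_assoc (B ^ n), hB,
      smul_mul_assoc, mul_smul_comm, smul_smul, mul_assoc A, ← mul_assoc (A ^ n), ← pow_succ, ← pow_succ,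
      ← pow_add, Nat.choose_succ_succ' n 1, Nat.choose_one_right, Nat.add_comm (n.choose (1 + 1)) n]

theorem Sys.pow_smul [Nontrivial W] (Y : Sys β σ π P) (u : S) :
    ∀ n : ℕ, ∃ c : K, c ≠ 0 ∧ P u ^ n = c • P (u ^ n)
  | 0 => by
    obtain ⟨c, hc, h⟩ := Y.one_smul
    exact ⟨c⁻¹, inv_ne_zero hc, by rw [pow_zero, pow_zero, h, smul_smul, inv_mul_cancel₀ hc, _root_.one_smul]⟩
  | n + 1 => by
    obtain ⟨c, hc, h⟩ := Y.pow_smul u n
    obtain ⟨d, hd, h'⟩ := Y.mul (u ^ n) u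
    exact ⟨c * d, mul_ne_zero hc hd, by rw [pow_succ, h, smul_mul_assoc, h', smul_smul, pow_succ u n]⟩

variable [IsAlgClosed K] [FiniteDimensional K W]

/-- The counting bound. -/
theorem Sys.card_le_nine [Nontrivial W] (Y : Sys β σ π P) [hp : Fact r.Prime] (F : Form r β) (hr : Odd r)
    {z : X} (hz : z ^ 4 = 1) (hinv : ∀ s, σ (z ^ 2) s = s⁻¹) (h3 : (π z - 1) ^ 3 = 0) :
    Nat.card S ≤ 9 := by
  classical
  have hr0 : 0 < r := hp.out.pos
  have hrC : r ∣ r.choose 2 := by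
    obtain ⟨m, hm⟩ := hr
    refine ⟨m, ?_⟩
    rw [Nat.choose_two_right, hm, Nat.add_sub_cancel, show (2 * m + 1) * (2 * m) = (2 * m + 1) * m * 2 by ring,
      Nat.mul_div_cancel _ two_pos]
  have hroot : ∀ u, ∃ a : K, (a • P u) ^ r = 1 := fun u => by
    obtain ⟨c, hc, h⟩ := Y.pow_smul u r
    obtain ⟨d, hd, h'⟩ := Y.one_smul
    rw [F.exp, h', smul_smul] at h
    obtain ⟨a, ha⟩ := IsAlgClosed.exists_pow_nat_eq (c * d)⁻¹ hr0
    exact ⟨a, by rw [smul_pow, h, smul_smul, ha, inv_mul_cancel₀ (mul_ne_zero hc hd), _root_.one_smul]⟩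
  choose a ha' using hroot
  obtain ⟨Pr, hPr⟩ : ∃ Pr : S → Module.End K W, ∀ u, Pr u = a u • P u := ⟨fun u => a u • P u, fun _ => rfl⟩
  have ha : ∀ u, Pr u ^ r = 1 := fun u => by rw [hPr]; exact ha' u
  have ha0 : ∀ u, a u ≠ 0 := fun u e => by
    have h := ha' u
    rw [e, zero_smul, zero_pow hr0.ne'] at h
    exact zero_ne_one h
  have hsw : ∀ u v, Pr u * Pr v = β u v • (Pr v * Pr u) := fun u v => by
    simp only [hPr, smul_mul_assoc, mul_smul_comm, Y.swap u v, smul_smul]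
    congr 1
    ring
  have hμ : ∀ u v, ∃ c : K, c ^ r = 1 ∧ Pr u * Pr v = c • Pr (u * v) := fun u v => by
    obtain ⟨c, hc, h⟩ := Y.mul u v
    have e : Pr u * Pr v = (a u * a v * c * (a (u * v))⁻¹) • Pr (u * v) := by
      simp only [hPr, smul_mul_assoc, mul_smul_comm, h, smul_smul]
      congr 1
      rw [inv_mul_cancel_right₀ (ha0 _)]
      ring
    refine ⟨_, scalar_inj (W := W) ?_, e⟩
    have h1 : (Pr u * Pr v) ^ r = 1 := by
      obtain ⟨j, hj⟩ := hrC
      rw [skew_mul_pow (hsw v u), hj, pow_mul, F.pow_r, one_pow, _root_.one_smul, ha, ha, one_mul]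
    rw [e, smul_pow, ha] at h1
    rw [h1, _root_.one_smul]
  set πz := π.toHomUnits z with hπz
  have hπzv : (πz : Module.End K W) = π z := rfl
  have hπz4 : πz ^ 4 = 1 := by rw [hπz, ← map_pow, hz, map_one]
  let Uu : S → (Module.End K W)ˣ := fun u => Units.ofPowEqOne (Pr u) r (ha u) hr0.ne'
  have hUu : ∀ u, ((Uu u : (Module.End K W)ˣ) : Module.End K W) = Pr u := fun u => rfl
  have hconj : ∀ u, ∃ c : K, c ^ r = 1 ∧ π z * Pr u = c • (Pr (σ z u) * π z) := fun u => by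
    obtain ⟨c, hc, h⟩ := Y.conj z u
    have e : π z * Pr u = (a u * c * (a (σ z u))⁻¹) • (Pr (σ z u) * π z) := by
      simp only [hPr, smul_mul_assoc, mul_smul_comm, h, smul_smul]
      congr 1
      rw [inv_mul_cancel_right₀ (ha0 _)]
    refine ⟨_, scalar_inj (W := W) ?_, e⟩
    have h1 : (((πz * Uu u * πz⁻¹) ^ r : (Module.End K W)ˣ) : Module.End K W) = 1 := by
      rw [conj_pow, show Uu u ^ r = 1 from Units.ext (by rw [Units.val_pow_eq_pow_val, hUu, ha]; rfl),
        mul_one, mul_inv_cancel, Units.val_one]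
    rw [Units.val_pow_eq_pow_val, Units.val_mul, Units.val_mul, hUu, hπzv, e, smul_mul_assoc, mul_assoc (Pr (σ z u)),
      show π z * ((πz⁻¹ : (Module.End K W)ˣ) : Module.End K W) = 1 from πz.mul_inv, mul_one, smul_pow, ha] at h1
    rw [h1, _root_.one_smul]
  have hconjn : ∀ (i : ℕ) u, ∃ c : K, c ^ r = 1 ∧ π z ^ i * Pr u = c • (Pr ((σ z ^ i) u) * π z ^ i) := by
    intro i
    induction i with
    | zero => exact fun u => ⟨1, one_pow _, by simp⟩
    | succ i ih =>
      intro u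
      obtain ⟨c, hc, h⟩ := hconj u
      obtain ⟨d, hd, h'⟩ := ih (σ z u)
      refine ⟨c * d, by rw [mul_pow, hc, hd, one_mul], ?_⟩
      rw [pow_succ, mul_assoc, h, mul_smul_comm, ← mul_assoc, h', smul_mul_assoc, smul_smul, mul_assoc,
        pow_succ (σ z), MulAut.mul_apply, ← pow_succ]
  have hlab : ∀ {c c' : K} {u v : S}, c ≠ 0 → c • Pr u = c' • Pr v → u = v := by
    intro c c' u v hc h
    by_contra hne
    obtain ⟨t, ht⟩ := F.nd (u⁻¹ * v) fun e => hne (inv_mul_eq_one.mp e)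
    apply ht
    have h1 : (c * β u t) • (Pr t * Pr u) = (c' * β v t) • (Pr t * Pr v) := by
      rw [mul_smul, mul_smul, ← hsw, ← hsw, ← smul_mul_assoc, h, smul_mul_assoc]
    have h2 : c' • (Pr t * Pr v) = c • (Pr t * Pr u) := by rw [← mul_smul_comm, ← h, mul_smul_comm]
    rw [mul_comm c', mul_smul (β v t), h2, smul_smul] at h1
    have h3 : c * β u t = β v t * c := smul_left_injective K (fun e => by
      obtain ⟨w, hw⟩ := exists_ne (0 : W)
      apply hw
      have e2 : (((Uu t * Uu u)⁻¹ * (Uu t * Uu u) : (Module.End K W)ˣ) : Module.End K W) = 0 := by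
        rw [Units.val_mul, Units.val_mul, hUu, hUu, show Pr t * Pr u = 0 from e, mul_zero]
      rw [inv_mul_cancel, Units.val_one] at e2
      rw [← Module.End.one_apply (R := K) w, e2, LinearMap.zero_apply]) h1
    rw [mul_comm c] at h3
    rw [F.mulL, ← mul_right_cancel₀ hc h3, F.inv_left_mul]
  have hne : ∀ {c : K}, c ^ r = 1 → c ≠ 0 := fun {c} hc e => by
    rw [e, zero_pow hr0.ne'] at hc; exact zero_ne_one hc
  obtain ⟨c1, hc1, hP1⟩ : ∃ c : K, c ^ r = 1 ∧ Pr 1 = c • 1 := by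
    obtain ⟨c, hc, h⟩ := hμ 1 1
    rw [mul_one] at h
    refine ⟨c, hc, ?_⟩
    apply (Uu 1).isUnit.mul_left_cancel
    rw [hUu, h, mul_smul_comm, mul_one]
  have hc1' : c1⁻¹ ^ r = 1 := by rw [inv_pow, hc1, inv_one]
  -- the finite group
  let M : Submonoid (Module.End K W)ˣ :=
    { carrier := {g | ∃ c : K, c ^ r = 1 ∧ ∃ u i, (g : Module.End K W) = c • (Pr u * π z ^ i)}
      one_mem' := ⟨c1⁻¹, hc1', 1, 0, by
        rw [pow_zero, mul_one, hP1, smul_smul, inv_mul_cancel₀ (hne hc1), _root_.one_smul, Units.val_one]⟩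
      mul_mem' := by
        rintro g h ⟨c, hc, u, i, hg⟩ ⟨d, hd, v, j, hh⟩
        obtain ⟨e, he, he'⟩ := hconjn i v
        obtain ⟨f, hf, hf'⟩ := hμ u ((σ z ^ i) v)
        refine ⟨c * d * e * f, by simp [mul_pow, hc, hd, he, hf], u * (σ z ^ i) v, i + j, ?_⟩
        rw [Units.val_mul, hg, hh, smul_mul_assoc, mul_smul_comm, smul_smul, mul_assoc (Pr u),
          ← mul_assoc (π z ^ i), he', smul_mul_assoc, mul_assoc (Pr ((σ z ^ i) v)), ← pow_add, mul_smul_comm,
          smul_smul, ← mul_assoc (Pr u), hf', smul_mul_assoc, smul_smul] }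
  have hMfin : (M : Set (Module.End K W)ˣ).Finite := by
    haveI : Finite {c : K // c ^ r = 1} :=
      (Set.Finite.subset (Polynomial.nthRootsFinset r (1 : K)).finite_toSet fun c hc =>
        (Polynomial.mem_nthRootsFinset hr0 (1 : K)).mpr hc).to_subtype
    refine Set.Finite.of_finite_image ((Set.finite_range fun p : {c : K // c ^ r = 1} × S × Fin 4 =>
      (p.1 : K) • (Pr p.2.1 * π z ^ (p.2.2 : ℕ))).subset ?_) (Units.val_injective.injOn)
    rintro _ ⟨g, ⟨c, hc, u, i, hg⟩, rfl⟩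
    refine ⟨(⟨c, hc⟩, u, ⟨i % 4, Nat.mod_lt _ (by norm_num)⟩), ?_⟩
    show c • (Pr u * π z ^ (i % 4)) = (g : Module.End K W)
    rw [hg]
    congr 2
    exact (pow_eq_pow_mod i (by rw [← map_pow, hz, map_one] : π z ^ 4 = 1)).symm
  haveI : Finite M := hMfin.to_subtype
  let Γ : Subgroup (Module.End K W)ˣ :=
    { toSubmonoid := M
      inv_mem' := fun {g} hg => by
        obtain ⟨i, j, hij, hp⟩ : ∃ i j : ℕ, i < j ∧ g ^ i = g ^ j := by
          obtain ⟨i, j, hne, h⟩ := Finite.exists_ne_map_eq_of_infinite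
            (fun n : ℕ => (⟨g ^ n, M.pow_mem hg n⟩ : M))
          rcases Nat.lt_or_gt_of_ne hne with h' | h'
          · exact ⟨i, j, h', congrArg Subtype.val h⟩
          · exact ⟨j, i, h', (congrArg Subtype.val h).symm⟩
        rw [inv_eq_of_mul_eq_one_right (show g * g ^ (j - i - 1) = 1 by
          refine mul_left_cancel (a := g ^ i) ?_
          rw [mul_one, ← pow_succ', ← pow_add, show i + (j - i - 1 + 1) = j by omega, hp])]
        exact M.pow_mem hg _ }
  haveI : Finite Γ := ‹Finite M›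
  let ρ : Γ →* Module.End K W := (Units.coeHom _).comp Γ.subtype
  have hρ : ∀ g : Γ, ρ g = ((g : (Module.End K W)ˣ) : Module.End K W) := fun g => rfl
  have hρi : Function.Injective ρ := fun g h e => Subtype.ext (Units.ext e)
  have hQone : ρ 1 = c1⁻¹ • Pr 1 := by
    rw [map_one, hP1, smul_smul, inv_mul_cancel₀ (hne hc1), _root_.one_smul]
  let Q : Subgroup Γ :=
    { carrier := {g | ∃ c : K, c ^ r = 1 ∧ ∃ u, ρ g = c • Pr u}
      one_mem' := ⟨c1⁻¹, hc1', 1, hQone⟩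
      mul_mem' := by
        rintro g h ⟨c, hc, u, hg⟩ ⟨d, hd, v, hh⟩
        obtain ⟨f, hf, hf'⟩ := hμ u v
        refine ⟨c * d * f, by simp [mul_pow, hc, hd, hf], u * v, ?_⟩
        rw [map_mul, hg, hh, smul_mul_assoc, mul_smul_comm, smul_smul, hf', smul_smul]
      inv_mem' := by
        rintro g ⟨c, hc, u, hg⟩
        obtain ⟨d, hd, hd'⟩ := Y.pow_smul u (r - 1)
        have hgr : g ^ r = 1 := hρi (by rw [map_pow, hg, map_one, smul_pow, hc, ha, _root_.one_smul])
        rw [inv_eq_of_mul_eq_one_right (show g * g ^ (r - 1) = 1 by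
          rw [← pow_succ', show r - 1 + 1 = r by omega, hgr])]
        induction (r - 1) with
        | zero => exact ⟨c1⁻¹, hc1', 1, by rw [pow_zero]; exact hQone⟩
        | succ n ih =>
          obtain ⟨e, he, v, hv⟩ := ih
          obtain ⟨f, hf, hf'⟩ := hμ v u
          refine ⟨e * c * f, by simp [mul_pow, he, hc, hf], v * u, ?_⟩
          rw [pow_succ, map_mul, hv, hg, smul_mul_assoc, mul_smul_comm, smul_smul, hf', smul_smul] }
  let Z : Subgroup Γ :=
    { carrier := {g | ∃ c : K, c ^ r = 1 ∧ ρ g = c • 1}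
      one_mem' := ⟨1, one_pow _, by rw [map_one, _root_.one_smul]⟩
      mul_mem' := by
        rintro g h ⟨c, hc, hg⟩ ⟨d, hd, hh⟩
        exact ⟨c * d, by rw [mul_pow, hc, hd, one_mul],
          by rw [map_mul, hg, hh, smul_mul_assoc, one_mul, smul_smul]⟩
      inv_mem' := by
        rintro g ⟨c, hc, hg⟩
        refine ⟨c⁻¹, by rw [inv_pow, hc, inv_one], ?_⟩
        calc ρ g⁻¹ = ρ g⁻¹ * (ρ g * c⁻¹ • 1) := by
              rw [hg, smul_mul_assoc, one_mul, smul_smul, mul_inv_cancel₀ (hne hc), _root_.one_smul, mul_one]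
          _ = c⁻¹ • 1 := by rw [← mul_assoc, ← map_mul, inv_mul_cancel, map_one, one_mul] }
  have hZQ : Z ≤ Q := by
    rintro g ⟨c, hc, hg⟩
    exact ⟨c * c1⁻¹, by rw [mul_pow, hc, hc1', one_mul], 1, by
      rw [hg, hP1, smul_smul, mul_assoc, inv_mul_cancel₀ (hne hc1), mul_one]⟩
  have hUuM : ∀ u, Uu u ∈ Γ := fun u => ⟨1, one_pow _, u, 0, by simp [hUu]⟩
  have hzM : πz ∈ Γ := ⟨c1⁻¹, hc1', 1, 1, by
    rw [pow_one, hP1, smul_mul_assoc, one_mul, smul_smul, inv_mul_cancel₀ (hne hc1), _root_.one_smul]; rfl⟩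
  set x : Γ := ⟨πz, hzM⟩ with hx
  have hx4 : x ^ 4 = 1 := Subtype.ext hπz4
  have hρx : ρ x = π z := rfl
  have hxQ : ∀ g ∈ Q, x * g * x⁻¹ ∈ Q := by
    rintro g ⟨c, hc, u, hg⟩
    obtain ⟨d, hd, hd'⟩ := hconj u
    refine ⟨c * d, by rw [mul_pow, hc, hd, one_mul], σ z u, ?_⟩
    rw [map_mul, map_mul, hg, hρx, mul_smul_comm, hd', smul_smul, smul_mul_assoc, mul_assoc, ← hρx,
      ← map_mul, mul_inv_cancel, map_one, mul_one]
  have hZc : ∀ g ∈ Z, ∀ h : Γ, h * g * h⁻¹ = g := by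
    rintro g ⟨c, hc, hg⟩ h
    refine hρi ?_
    rw [map_mul, map_mul, hg, mul_smul_comm, mul_one, smul_mul_assoc, ← map_mul, mul_inv_cancel, map_one]
  have hnorm : ∀ A : Subgroup Γ, (∀ g ∈ A, x * g * x⁻¹ ∈ A) → x ∈ normalizer (A : Set Γ) := fun A hA => by
    refine mem_normalizer_iff.mpr fun g => ⟨hA g, fun hg => ?_⟩
    have h1 := hA _ (hA _ (hA _ hg))
    rwa [show x * (x * (x * (x * g * x⁻¹) * x⁻¹) * x⁻¹) * x⁻¹ = x ^ 4 * g * (x ^ 4)⁻¹ by
      simp only [pow_succ, pow_zero, one_mul, mul_inv_rev, mul_assoc], hx4, one_mul,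
      inv_one, mul_one] at h1
  let ω : Γ → K := fun g => if h : ∃ c : K, ρ g = c • 1 then h.choose else 0
  have hω : ∀ g (c : K), ρ g = c • 1 → ω g = c := fun g c hg => by
    have h : ∃ c : K, ρ g = c • 1 := ⟨c, hg⟩
    show (if h : ∃ c : K, ρ g = c • 1 then h.choose else 0) = c
    rw [dif_pos h]
    exact scalar_inj (h.choose_spec.symm.trans hg)
  have hlbl : ∀ g : Q, ∃ u, ∃ c : K, c ^ r = 1 ∧ ρ (g : Γ) = c • Pr u := fun g => by
    obtain ⟨c, hc, u, h⟩ := g.2
    exact ⟨u, c, hc, h⟩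
  choose lbl cl hcl hlblv using hlbl
  have hlblu : ∀ (g : Q) (c : K) u, ρ (g : Γ) = c • Pr u → lbl g = u := fun g c u h =>
    hlab (hne (hcl g)) ((hlblv g).symm.trans h)
  let φ : Q →* S :=
    { toFun := lbl
      map_one' := hlblu 1 c1⁻¹ 1 hQone
      map_mul' := fun g h => by
        obtain ⟨f, hf, hf'⟩ := hμ (lbl g) (lbl h)
        refine hlblu (g * h) (cl g * cl h * f) _ ?_
        rw [Subgroup.coe_mul, map_mul, hlblv, hlblv, smul_mul_assoc, mul_smul_comm, smul_smul, hf', smul_smul] }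
  have hφs : Function.Surjective φ := fun u =>
    ⟨⟨⟨Uu u, hUuM u⟩, 1, one_pow _, u, (_root_.one_smul K (Pr u)).symm⟩, hlblu _ 1 u (_root_.one_smul K (Pr u)).symm⟩
  have hφk : φ.ker = Z.subgroupOf Q := by
    ext g
    rw [MonoidHom.mem_ker, mem_subgroupOf]
    refine ⟨fun h => ⟨cl g * c1, by rw [mul_pow, hcl, hc1, one_mul], ?_⟩, ?_⟩
    · rw [hlblv, show lbl g = 1 from h, hP1, smul_smul]
    · rintro ⟨c, hc, hg⟩
      exact hlblu g (c * c1⁻¹) 1 (by rw [hg, hP1, smul_smul, mul_assoc, inv_mul_cancel₀ (hne hc1), mul_one])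
  have hcomm : ∀ g h : Q, ρ ⁅(g : Γ), (h : Γ)⁆ = β (lbl g) (lbl h) • 1 := fun g h => by
    have h1 : ρ ((g : Γ) * h) = β (lbl g) (lbl h) • ρ ((h : Γ) * g) := by
      rw [map_mul, map_mul, hlblv, hlblv, smul_mul_assoc, mul_smul_comm, hsw, smul_mul_assoc, mul_smul_comm,
        smul_smul, smul_smul, smul_smul, smul_smul]
      congr 1
      ring
    rw [show ⁅(g : Γ), (h : Γ)⁆ = (g : Γ) * h * ((h : Γ) * g)⁻¹ by rw [commutatorElement_def]; group,
      map_mul, h1, smul_mul_assoc, ← map_mul, mul_inv_cancel, map_one]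
  have hfix : ∀ i, 0 < i → i < 4 → ∀ s, (σ z ^ i) s = s → s = 1 := by
    intro i hi hi4 s hs
    refine F.eq_one_of_sq hr ?_
    have h2 : (σ z ^ (2 * i)) s = s := by rw [two_mul, pow_add, MulAut.mul_apply, hs, hs]
    have e4 : σ z ^ 4 = 1 := by rw [← map_pow, hz, map_one]
    have h3 : σ (z ^ 2) s = s := by
      rw [map_pow]
      rcases (show i = 1 ∨ i = 2 ∨ i = 3 by omega) with rfl | rfl | rfl
      · exact h2
      · exact hs
      · rwa [show 2 * 3 = 4 + 2 by norm_num, pow_add, e4, one_mul] at h2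
    rw [hinv] at h3
    exact inv_eq_iff_mul_eq_one.mp h3
  obtain ⟨d, hd, -, hineq⟩ := HHModular.hallHigman_modular ρ Q Z x (h := 4) (by norm_num) hx4
    (hnorm Q hxQ) (hnorm Z fun g hg => by rw [hZc g hg x]; exact hg)
    (fun g hg t ht => ⟨β (lbl ⟨t, ht⟩) (lbl ⟨g, hg⟩), F.pow_r _ _, hcomm ⟨t, ht⟩ ⟨g, hg⟩⟩) ω
    (fun g hg => by
      obtain ⟨c, -, hg⟩ := hg
      rw [hω g c hg, hg])
    (fun g hg => by rw [hZc g hg x])
    (fun g hg hgZ => by
      have h1 : lbl ⟨g, hg⟩ ≠ 1 := fun e => hgZ (by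
        have : (⟨g, hg⟩ : Q) ∈ φ.ker := e
        rwa [hφk, mem_subgroupOf] at this)
      obtain ⟨t, ht⟩ := F.nd _ h1
      obtain ⟨t', rfl⟩ := hφs t
      refine ⟨t', t'.2, ?_⟩
      rw [hω _ _ (hcomm t' ⟨g, hg⟩)]
      exact fun h => ht (F.swap_eq_one h))
    hZQ
    (fun i hi hi4 g hg hgi => by
      obtain ⟨e, he, he'⟩ := hconjn i (lbl ⟨g, hg⟩)
      obtain ⟨c, hc, hci⟩ := hgi
      suffices h1 : (⟨g, hg⟩ : Q) ∈ φ.ker by rwa [hφk, mem_subgroupOf] at h1
      show lbl ⟨g, hg⟩ = 1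
      refine hfix i hi hi4 _ (hlab (mul_ne_zero (hne (hcl ⟨g, hg⟩)) (hne he)) (c' := cl ⟨g, hg⟩ * c) ?_)
      refine (((x : (Module.End K W)ˣ) ^ i).isUnit.mul_right_cancel) ?_
      rw [Units.val_pow_eq_pow_val, show ((x : (Module.End K W)ˣ) : Module.End K W) = π z from rfl,
        smul_mul_assoc, mul_smul, ← he', ← mul_smul_comm, ← hlblv ⟨g, hg⟩]
      calc π z ^ i * ρ g = ρ (g * (g⁻¹ * (x ^ i * g * (x ^ i)⁻¹)) * x ^ i) := by
            rw [← hρx, ← map_pow, ← map_mul]; congr 1; group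
        _ = (cl ⟨g, hg⟩ * c) • Pr (lbl ⟨g, hg⟩) * π z ^ i := by
            rw [map_mul, map_mul, hci, map_pow, hρx, show ρ g = _ from hlblv ⟨g, hg⟩, mul_smul_comm, mul_one,
              smul_smul, mul_comm c])
    h3
  have hS : Nat.card S = Z.relIndex Q := by
    show Nat.card S = (Z.subgroupOf Q).index
    rw [← hφk, Subgroup.index_ker, MonoidHom.range_eq_top_of_surjective _ hφs, Nat.card_congr Subgroup.topEquiv.toEquiv]
  rw [hS, ← hd]
  generalize d * d = D at hineq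
  omega

end Cfsg.Agent.Grp.BryD
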