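import Mathlib
import Cfsg.Agent.Lib.Grp.BryTwo.Module
import Cfsg.Agent.Lib.Grp.BryDer.Levels

/-!
A representation killed by the products along the derived series is killed, on elements of odd order,
by a normal subgroup with small quotient.
-/

set_option autoImplicit false
set_option linter.style.haveILetI false
set_option linter.unusedSectionVars false

namespace Cfsg.Agent.Grp.BryD

open Module Subgroup
open Cfsg.Agent.Grp.Bry (K2 pLengthLE_quotient_inf pLengthLE_quotient_top sub_one_pow_two_pow)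
open scoped commutatorElement

universe u

/-- The bound for reduced groups on whose modules `n + 1` levels of products vanish. -/
def BDStmt (n : ℕ) : Prop :=
  ∀ (H : Type u) [Group H] [Finite H] (W : Type u) [AddCommGroup W] [Module K2 W] [FiniteDimensional K2 W]
    (ρ : H →* Module.End K2 W), Function.Injective ρ → Cfsg.IsPSolvable 2 H → Cfsg.pCore 2 H = ⊥ →
    (∀ P : Sylow 2 H, Nilp ρ (P : Subgroup H) (n + 1)) → Cfsg.PLengthLE 2 n H

/-- Vanishing passes to a quotient group. -/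
theorem nilp_of_surjective {G G' : Type*} [Group G] [Finite G] [Group G'] {W : Type*} [AddCommGroup W]
    [Module K2 W] (q : G →* G') (hq : Function.Surjective q) (π : G' →* Module.End K2 W) {d : ℕ}
    (h : ∀ P : Sylow 2 G, Nilp (π.comp q) (P : Subgroup G) d) (P : Sylow 2 G') :
    Nilp π (P : Subgroup G') d := by
  haveI : Finite G' := Finite.of_surjective q hq
  obtain ⟨P', rfl⟩ := Sylow.mapSurjective_surjective hq 2 P
  intro f hf
  have hpre : ∀ i, ∃ g ∈ dser (P' : Subgroup G) i, q g = f i := fun i => by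
    have h1 : f i ∈ (dser (P' : Subgroup G) i).map q := by rw [map_dser]; exact hf i
    exact h1
  choose g hg hgf using hpre
  have := h P' g hg
  rwa [prodOp_comp, show (fun i => q (g i)) = f from funext hgf] at this

/-- The representation-theoretic step. -/
theorem module_kernel {n : ℕ} (hB : BDStmt.{u} n) {H : Type u} [Group H] [Finite H]
    (hH : Cfsg.IsPSolvable 2 H) : ∀ (d : ℕ) (W : Type u) [AddCommGroup W] [Module K2 W] [FiniteDimensional K2 W]
      (ρ : H →* Module.End K2 W), finrank K2 W = d → (∀ P : Sylow 2 H, Nilp ρ (P : Subgroup H) (n + 1)) →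
      ∃ (N : Subgroup H) (_ : N.Normal), Cfsg.PLengthLE 2 n (H ⧸ N) ∧ ∀ y ∈ N, Odd (orderOf y) → ρ y = 1 := by
  haveI : Fact (Nat.Prime 2) := ⟨Nat.prime_two⟩
  intro d
  induction d using Nat.strong_induction_on with
  | _ d ih =>
  intro W _ _ _ ρ hd hN
  rcases Nat.eq_zero_or_pos d with rfl | hpos
  · haveI := Module.finrank_zero_iff.mp hd
    exact ⟨⊤, inferInstance, pLengthLE_quotient_top n, fun _ _ _ => LinearMap.ext fun _ => Subsingleton.elim _ _⟩
  haveI : Nontrivial W := Module.nontrivial_of_finrank_pos (R := K2) (hd.symm ▸ hpos)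
  by_cases hred : ∃ U : Submodule K2 W, U ≠ ⊥ ∧ U ≠ ⊤ ∧ ∀ g, ∀ v ∈ U, ρ g v ∈ U
  · obtain ⟨U, hU0, hU1, hUi⟩ := hred
    let σ1 := DerivedLength.subRep ρ U hUi
    let σ2 := DerivedLength.quotRep ρ U hUi
    obtain ⟨N1, hN1, hl1, hk1⟩ := ih _ (hd ▸ Submodule.finrank_lt hU1) U σ1 rfl fun P f hf =>
      LinearMap.ext fun v => Subtype.ext (by
        have h := prodOp_intertwine (π := ρ) (π' := σ1) U.subtype f (fun i w => rfl) (n + 1) v
        exact h.trans (by rw [hN P f hf]; rfl))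
    obtain ⟨N2, hN2, hl2, hk2⟩ := ih (finrank K2 (W ⧸ U)) (by
        have h := U.finrank_quotient_add_finrank
        have h0 : 0 < finrank K2 U := by
          haveI := Submodule.nontrivial_iff_ne_bot.mpr hU0
          exact Module.finrank_pos
        omega) (W ⧸ U) σ2 rfl fun P f hf => LinearMap.ext fun v => by
      obtain ⟨w, rfl⟩ := Submodule.Quotient.mk_surjective U v
      have h := prodOp_intertwine (π := σ2) (π' := ρ) U.mkQ f (fun i w => rfl) (n + 1) w
      exact h.symm.trans (by rw [hN P f hf]; rfl)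
    refine ⟨N1 ⊓ N2, inferInstance, pLengthLE_quotient_inf N1 N2 hl1 hl2, fun y hy hyo => ?_⟩
    have h1 : (ρ y - 1) * (ρ y - 1) = 0 := LinearMap.ext fun v => by
      have h3 : (ρ y - 1) v ∈ U := DerivedLength.sub_mem_of_quotRep (hk2 y hy.2 hyo) v
      have h4 : ρ y ((ρ y - 1) v) = (ρ y - 1) v := DerivedLength.apply_eq_of_subRep (hk1 y hy.1 hyo) h3
      rw [Module.End.mul_apply, LinearMap.sub_apply, h4, Module.End.one_apply, sub_self,
        LinearMap.zero_apply]
    have h2 : ρ y ^ 2 = 1 := by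
      have := sub_one_pow_two_pow (ρ y) 1
      rw [pow_one, sq, h1] at this
      exact eq_of_sub_eq_zero this.symm
    obtain ⟨j, hj⟩ := hyo
    have h3 : ρ y ^ orderOf y = 1 := by rw [← map_pow, pow_orderOf_eq_one, map_one]
    rwa [hj, pow_succ, pow_mul, h2, one_pow, one_mul] at h3
  push Not at hred
  set N := ρ.ker with hNdef
  let ρb : H ⧸ N →* Module.End K2 W := QuotientGroup.lift N ρ le_rfl
  have hρb : ∀ g : H, ρb (g : H ⧸ N) = ρ g := fun g => rfl
  have hinj : Function.Injective ρb := fun a b hab => by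
    obtain ⟨a, rfl⟩ := QuotientGroup.mk_surjective a
    obtain ⟨b, rfl⟩ := QuotientGroup.mk_surjective b
    rw [hρb, hρb] at hab
    rw [QuotientGroup.eq, hNdef, MonoidHom.mem_ker, map_mul, ← hab, ← map_mul, inv_mul_cancel, map_one]
  refine ⟨N, inferInstance, hB _ W ρb hinj
    (isPSolvable_map hH (QuotientGroup.mk' N) (QuotientGroup.mk'_surjective N)) ?_
    (nilp_of_surjective (QuotientGroup.mk' N) (QuotientGroup.mk'_surjective N) ρb hN), fun y hy _ => hy⟩
  set P := Cfsg.pCore 2 (H ⧸ N)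
  haveI hPn : P.Normal := pCore_isNormal
  obtain ⟨v, hv, hfix⟩ := DerivedLength.exists_fixed_mod (p := 2) (pCore_isPGroup : IsPGroup 2 P)
    (ρb.comp P.subtype) (⊥ : Submodule K2 W) (fun g x hx => by rw [(Submodule.mem_bot K2).mp hx, map_zero]; exact zero_mem _) bot_ne_top
  let Fx : Submodule K2 W := ⨅ g : P, LinearMap.eqLocus (ρb g) 1
  have hmem : ∀ w, w ∈ Fx ↔ ∀ g ∈ P, ρb g w = w := fun w => by
    simp [Fx, Submodule.mem_iInf, LinearMap.mem_eqLocus]
  have hFtop : Fx = ⊤ := by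
    by_contra hne
    have hFx0 : Fx ≠ ⊥ := (Submodule.ne_bot_iff _).mpr ⟨v, (hmem v).mpr fun g hg => sub_eq_zero.mp
      ((Submodule.mem_bot K2).mp (hfix ⟨g, hg⟩)), fun h => hv (h ▸ zero_mem _)⟩
    obtain ⟨g, w, hw, hgw⟩ := hred Fx hFx0 hne
    refine hgw ((hmem _).mpr fun p hp => ?_)
    have hp' : (g : H ⧸ N)⁻¹ * p * g ∈ P := by
      have := hPn.conj_mem p hp (g : H ⧸ N)⁻¹
      rwa [inv_inv] at this
    rw [← hρb g, ← Module.End.mul_apply, ← map_mul,
      show p * (g : H ⧸ N) = (g : H ⧸ N) * ((g : H ⧸ N)⁻¹ * p * g) by group, map_mul,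
      Module.End.mul_apply, (hmem w).mp hw _ hp']
  refine (eq_bot_iff_forall _).mpr fun g hg => hinj ?_
  rw [map_one]
  exact LinearMap.ext fun w => (hmem w).mp (hFtop ▸ Submodule.mem_top) g hg

/-- The iterated commutator along a sequence. -/
def itc {G : Type*} [Group G] (f : ℕ → G) (g : G) : ℕ → G
  | 0 => g
  | k + 1 => f k * itc f g k * (f k)⁻¹ * (itc f g k)⁻¹

theorem itc_succ {G : Type*} [Group G] (f : ℕ → G) (g : G) (k : ℕ) :
    itc f g (k + 1) = f k * itc f g k * (f k)⁻¹ * (itc f g k)⁻¹ := rfl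

theorem map_itc {G G' : Type*} [Group G] [Group G'] (φ : G →* G') (f : ℕ → G) (g : G) :
    ∀ k, φ (itc f g k) = itc (fun i => φ (f i)) (φ g) k
  | 0 => rfl
  | k + 1 => by rw [itc_succ, itc_succ, map_mul, map_mul, map_mul, map_inv, map_inv, map_itc φ f g k]

theorem itc_mem {G : Type*} [Group G] {M : Subgroup G} (hM : M.Normal) (f : ℕ → G) {g : G} (hg : g ∈ M) :
    ∀ k, itc f g k ∈ M
  | 0 => hg
  | k + 1 => M.mul_mem (hM.conj_mem _ (itc_mem hM f hg k) (f k)) (M.inv_mem (itc_mem hM f hg k))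

theorem itc_mem_dser {G : Type*} [Group G] {P : Subgroup G} {f : ℕ → G} (hf : ∀ i, f i ∈ dser P i) {g : G}
    (hg : g ∈ P) : ∀ k, itc f g k ∈ dser P k
  | 0 => hg
  | k + 1 => commutator_mem_commutator (hf k) (itc_mem_dser hf hg k)

/-- The step for a normal section of exponent two on which the iterated commutators vanish. -/
theorem sec_kernel {n : ℕ} (hB : BDStmt.{u} n) {H : Type u} [Group H] [Finite H]
    (hH : Cfsg.IsPSolvable 2 H) {M F : Subgroup H} (hMn : M.Normal) (hFn : F.Normal) (hFM : F ≤ M)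
    (hcomm : ∀ a ∈ M, ∀ b ∈ M, a * b * a⁻¹ * b⁻¹ ∈ F) (hsq : ∀ a ∈ M, a * a ∈ F)
    (hitc : ∀ P : Sylow 2 H, ∀ f : ℕ → H, (∀ i, f i ∈ dser (P : Subgroup H) i) →
      ∀ g ∈ M, itc f g (n + 1) ∈ F) :
    ∃ (N : Subgroup H) (_ : N.Normal), Cfsg.PLengthLE 2 n (H ⧸ N) ∧
      ∀ y ∈ N, Odd (orderOf y) → ∀ g ∈ M, y * g * y⁻¹ * g⁻¹ ∈ F := by
  classical
  haveI : Fact (Nat.Prime 2) := ⟨Nat.prime_two⟩
  obtain ⟨S, _, _, f, σ, hfs, hfk, hσ⟩ := HHP.exists_section_action (⊤ : Subgroup H) M F hFM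
    (fun a ha b hb => by rw [commutatorElement_def]; exact hcomm a ha b hb)
    (fun d _ => by rw [normalizer_eq_top]; exact mem_top d) (fun d _ a ha => hFn.conj_mem a ha d)
  set χ : H →* MulAut S := σ.comp (Subgroup.topEquiv : (⊤ : Subgroup H) ≃* H).symm.toMonoidHom with hχ
  have hχf : ∀ (h : H) (a : M), χ h (f a) = f ⟨h * a * h⁻¹, hMn.conj_mem _ a.2 h⟩ := fun h a =>
    hσ ⟨h, mem_top h⟩ a _ rfl
  have hker : ∀ a : M, f a = 1 ↔ (a : H) ∈ F := fun a => by
    rw [← MonoidHom.mem_ker, hfk, mem_subgroupOf]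
  have hS : ∀ w : S, w ^ 2 = 1 := fun w => by
    obtain ⟨a, rfl⟩ := hfs w
    rw [← map_pow, hker, SubgroupClass.coe_pow, sq]
    exact hsq a a.2
  obtain ⟨W, _, _, _, L, hL, -, -, hLl⟩ := HHExc.exists_linearization (p := 2) hS
  have hN : ∀ P : Sylow 2 H, Nilp (L.comp χ) (P : Subgroup H) (n + 1) := by
    intro P s hs
    have key : ∀ k (g : M), ((List.range k).reverse.map fun i => χ (s i)).foldr (fun φ w => φ w / w) (f g) =
        f ⟨itc s g k, itc_mem hMn s g.2 k⟩ := by
      intro k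
      induction k with
      | zero => intro g; rfl
      | succ k ih =>
        intro g
        rw [List.range_succ, List.reverse_append, List.map_append, List.foldr_append]
        simp only [List.reverse_cons, List.reverse_nil, List.nil_append, List.map_cons, List.map_nil,
          List.foldr_cons, List.foldr_nil]
        rw [ih g, hχf, div_eq_mul_inv, ← map_inv, ← map_mul]
        rfl
    rw [prodOp_list, show (fun i => (L.comp χ) (s i) - 1) = (fun φ => L φ - 1) ∘ (fun i => χ (s i)) from rfl,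
      ← List.map_map]
    refine hLl _ fun w => ?_
    obtain ⟨g, rfl⟩ := hfs w
    rw [key, hker]
    exact hitc P s hs g g.2
  obtain ⟨N, hNn, hl, hk⟩ := module_kernel hB hH _ W (L.comp χ) rfl hN
  refine ⟨N, hNn, hl, fun y hy hyo g hg => ?_⟩
  have h1 : χ y = 1 := hL (by rw [map_one]; exact hk y hy hyo)
  have h2 := hχf y ⟨g, hg⟩
  rw [h1, MulAut.one_apply, eq_comm, ← mul_inv_eq_one, ← map_inv, ← map_mul, hker] at h2
  exact h2

end Cfsg.Agent.Grp.BryD
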