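import Mathlib
import Cfsg.Agent.Lib.Grp.BryDer.Count

/-!
The top level of a system: one involution; the case of two levels.
-/

set_option autoImplicit false
set_option linter.style.haveILetI false
set_option linter.unusedSectionVars false

namespace Cfsg.Agent.Grp.BryD

open Subgroup
open Cfsg.Agent.Grp.Gross (Form Isom mov mem_mov)
open Cfsg.Agent.Grp.Bry (Fixes ext_split exists_mem_mov_ne_one apply_mem_mov apply_fix)

universe u v w

variable {K : Type*} [Field K] [CharP K 2] {S : Type u} [CommGroup S] [Finite S] {r : ℕ} {β : S → S → K}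
  {W : Type v} [AddCommGroup W] [Module K W] {X : Type w} [Group X] [Finite X]
  {σ : X →* MulAut S} {π : X →* Module.End K W} {P : S → Module.End K W}

theorem sub_one_mul_self (T : Module.End K W) : (T - 1) * (T - 1) = T * T - 1 := by
  rw [sub_mul, mul_sub, mul_one, one_mul, sub_eq_add_neg (T * T - T), neg_sub, sub_eq_add_neg 1 T,
    end_neg_eq, sub_eq_add_neg (T * T) T, end_neg_eq, show T * T + T + (1 + T) = T * T + 1 + (T + T) by abel,
    end_add_self, add_zero, sub_eq_add_neg, end_neg_eq]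

/-- The elements fixed by an automorphism. -/
def fixS (e : MulAut S) : Subgroup S where
  carrier := {s | e s = s}
  one_mem' := map_one e
  mul_mem' := fun {a b} ha hb => by
    show e (a * b) = a * b
    rw [map_mul, show e a = a from ha, show e b = b from hb]
  inv_mem' := fun {a} ha => by
    show e a⁻¹ = a⁻¹
    rw [map_inv, show e a = a from ha]

theorem mem_fixS {e : MulAut S} {s : S} : s ∈ fixS e ↔ e s = s := Iff.rfl

theorem fix_of_commute {e g : MulAut S} (h : Commute g e) {s : S} (hs : s ∈ fixS e) : g s ∈ fixS e :=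
  apply_fix h hs

/-- The fixed part of an involutory isometry is non-degenerate. -/
theorem nd_fixS (F : Form r β) (hr : Odd r) {e : MulAut S} (he : e * e = 1) (hi : Isom β e) {h : S}
    (hh : h ∈ fixS e) (h1 : h ≠ 1) : ∃ b ∈ fixS e, β h b ≠ 1 := by
  obtain ⟨t, ht, hb⟩ := exists_fix_pair F hr hi (m := 1) (by rw [pow_one, sq, he]) hh h1
  exact ⟨t, ht, fun hx => hb (F.swap_eq_one hx)⟩

theorem fixS_inf_mov (F : Form r β) (hr : Odd r) {e : MulAut S} {s : S} (h1 : s ∈ fixS e) (h2 : s ∈ mov e) :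
    s = 1 := by
  rw [mem_mov, show e s = s from h1] at h2
  exact F.eq_one_of_sq hr (eq_inv_iff_mul_eq_one.mp h2)

theorem mem_fixS_mul_apply {e : MulAut S} (he : e * e = 1) (s : S) : s * e s ∈ fixS e := by
  show e (s * e s) = s * e s
  rw [map_mul, ← MulAut.mul_apply, he, MulAut.one_apply, mul_comm]

theorem sq_ne_one_of (F : Form r β) (hr : Odd r) {u : S} (hu : u ≠ 1) : u * u ≠ 1 :=
  fun h => hu (F.eq_one_of_sq hr h)

variable [FiniteDimensional K W] [Nontrivial W]

/-- Two elements of the top level: they are equal involutions. -/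
theorem Sys.top_unique (Y : Sys β σ π P) (F : Form r β) (hr : Odd r) (hinj : Function.Injective σ) {e : ℕ}
    (hN : Nilp π (⊤ : Subgroup X) (e + 1)) {a : X} (ha : a ∈ dser (⊤ : Subgroup X) e) (ha1 : a ≠ 1) :
    a * a = 1 ∧ (∀ x, Commute x a) ∧ ∀ b ∈ dser (⊤ : Subgroup X) e, b = 1 ∨ b = a := by
  have hker : ∀ x, π x = 1 → x = 1 := fun x hx => hinj (by rw [Y.fix_of_eq_one F hx, map_one])
  have hinvol : ∀ b ∈ dser (⊤ : Subgroup X) e, b * b = 1 := fun b hb => hker _ (by
    have h := hN.quadratic hb hb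
    rw [sub_one_mul_self, sub_eq_zero] at h
    rw [map_mul]; exact h)
  have hcomm : ∀ b ∈ dser (⊤ : Subgroup X) e, ∀ c ∈ dser (⊤ : Subgroup X) e, Commute b c := fun b hb c hc => by
    have h := hinvol _ (mul_mem hb hc)
    have hb' := hinvol b hb
    have hc' := hinvol c hc
    show b * c = c * b
    rw [← inv_eq_of_mul_eq_one_right h, mul_inv_rev, inv_eq_of_mul_eq_one_right hb',
      inv_eq_of_mul_eq_one_right hc']
  have hfix : ∀ c ∈ dser (⊤ : Subgroup X) e, ∀ b ∈ dser (⊤ : Subgroup X) e, c ≠ 1 → ∀ u ∈ fixS (σ c), σ b u = u := by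
    intro c hc b hb hc1 u hu
    by_contra hne
    apply hc1
    apply hker
    rw [← sub_eq_zero]
    set w := u * (σ b u)⁻¹ with hw
    have hbu : σ b u ∈ fixS (σ c) := fix_of_commute ((hcomm b hb c hc).map σ) hu
    have hwf : w ∈ fixS (σ c) := mul_mem hu (inv_mem hbu)
    have hw1 : w ≠ 1 := fun h => hne (mul_inv_eq_one.mp h).symm
    obtain ⟨t, ht, htw⟩ := exists_fix_pair F hr (Y.iso c) (m := 1)
      (by rw [pow_one, sq, ← map_mul, hinvol c hc, map_one]) hwf hw1
    have h0 := hN.quadratic hc hb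
    have h := Y.strip (L := π c - 1) (R := 1) (g := b) (u := u) (t := t) (by rw [mul_one]; exact h0)
      (by rw [mul_one, mul_one]; rwa [mul_sub, mul_one, sub_eq_zero] at h0)
      (Y.commute_fix_sub hu) (Commute.one_left _) (Y.commute_fix_sub hwf) (Y.commute_fix_sub ht)
      (Commute.one_left _) htw
    rwa [mul_one] at h
  have huniq : ∀ b ∈ dser (⊤ : Subgroup X) e, b = 1 ∨ b = a := fun b hb => by
    rcases eq_or_ne b 1 with h | hb1
    · exact Or.inl h
    refine Or.inr (hinj ?_)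
    have hσ : σ a * σ a = 1 := by rw [← map_mul, hinvol a ha, map_one]
    have hσb : σ b * σ b = 1 := by rw [← map_mul, hinvol b hb, map_one]
    refine ext_split F hr hσ (fun v hv => ?_) fun s hs => ?_
    · obtain ⟨p, q, hp, hq, hpq, -⟩ := F.split hr hσb v
      have hqa : σ a q = q := hfix b hb a ha hb1 q hq
      have hpa : σ a p ∈ mov (σ b) := apply_mem_mov ((hcomm a ha b hb).map σ) hp
      have h1 : σ a p * p = q⁻¹ * q⁻¹ := by
        have h2 := mem_mov.mp hv
        rw [← hpq, map_mul, hqa, mul_inv_rev] at h2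
        calc σ a p * p = (σ a p * q) * p * q⁻¹ := by rw [mul_right_comm, mul_inv_cancel_right]
          _ = q⁻¹ * q⁻¹ := by rw [h2, inv_mul_cancel_right]
      have hq1 : q = 1 := F.eq_one_of_sq hr (inv_eq_one.mp (by
        rw [mul_inv_rev]
        exact fixS_inf_mov F hr (mul_mem (inv_mem hq) (inv_mem hq)) (h1 ▸ mul_mem hpa hp)))
      rw [mem_mov.mp hv]
      rw [← hpq, hq1, mul_one]
      exact mem_mov.mp hp
    · rw [hs]
      exact hfix a ha b hb ha1 s hs
  refine ⟨hinvol a ha, fun x => mul_inv_eq_iff_eq_mul.mp ?_, huniq⟩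
  exact (huniq _ (dser_conj_of_mem (mem_top x) ha)).resolve_left fun h => ha1 (conj_eq_one_iff.mp h)

/-- An element fixing an inverted point of `a` acts trivially. -/
theorem Sys.semireg (Y : Sys β σ π P) (F : Form r β) (hr : Odd r) {a x : X}
    (h : (π a - 1) * (π x - 1) = 0) {u : S} (hu1 : u ≠ 1) (hau : σ a u = u⁻¹) (hxu : σ x u = u) :
    π x = 1 := by
  rw [← sub_eq_zero]
  have hw : u * (σ a u)⁻¹ = u * u := by rw [hau, inv_inv]
  have hwf : σ x (u * u) = u * u := by rw [map_mul, hxu]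
  obtain ⟨m, hm⟩ := Y.pow_two_eq_one x
  obtain ⟨t, ht, htw⟩ := exists_fix_pair F hr (Y.iso x) (m := m) (by rw [← map_pow, hm, map_one]) hwf
    (sq_ne_one_of F hr hu1)
  have hgR : π a * (π x - 1) = π x - 1 := by
    rwa [sub_mul, one_mul, sub_eq_zero] at h
  have h2 := Y.strip (L := 1) (R := π x - 1) (g := a) (u := u) (t := t) (by rw [one_mul]; exact h)
    (by rw [one_mul, one_mul]; exact hgR) (Commute.one_left _) (Y.commute_fix_sub hxu) (Commute.one_left _)
    (Commute.one_left _) (Y.commute_fix_sub ht) (by rw [hw]; exact htw)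
  rwa [one_mul] at h2

/-- A power squaring to the only involution. -/
theorem exists_sq_eq {G : Type*} [Group G] [Finite G] (hG : IsPGroup 2 G) {g a : G} (hg : g ≠ 1) (hga : g ≠ a)
    (h : ∀ n : ℕ, g ^ n * g ^ n = 1 → g ^ n ≠ 1 → g ^ n = a) : ∃ n : ℕ, (g ^ n) ^ 2 = a := by
  haveI : Fact (Nat.Prime 2) := ⟨Nat.prime_two⟩
  obtain ⟨k, hk⟩ := IsPGroup.iff_orderOf.mp hG g
  rcases k with _ | _ | k
  · exact absurd (orderOf_eq_one_iff.mp hk) hg
  · have h2 : g ^ 2 = 1 := orderOf_dvd_iff_pow_eq_one.mp (by rw [hk, zero_add, pow_one])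
    have h3 := h 1 (by rw [pow_one, ← sq, h2]) (by rwa [pow_one])
    rw [pow_one] at h3
    exact absurd h3 hga
  · refine ⟨2 ^ k, ?_⟩
    rw [← pow_mul, ← pow_succ]
    refine h _ (by rw [← pow_add, ← two_mul, ← pow_succ', ← hk, pow_orderOf_eq_one]) fun e => ?_
    have h4 := orderOf_dvd_of_pow_eq_one e
    rw [hk, Nat.pow_dvd_pow_iff_le_right one_lt_two] at h4
    omega

variable [IsAlgClosed K] [hp : Fact r.Prime]

/-- Two levels: a plane. -/
theorem Sys.core_two (Y : Sys β σ π P) (F : Form r β) (hr : Odd r) (hinj : Function.Injective σ)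
    (hN : Nilp π (⊤ : Subgroup X) 2) {a : X} (ha : a ∈ dser (⊤ : Subgroup X) 1) (ha1 : a ≠ 1) :
    Nat.card (mov (σ a)) ≤ 9 ∧ ∀ x, Fixes (σ a) (σ x) := by
  classical
  obtain ⟨haa, hcen, -⟩ := Y.top_unique F hr hinj (e := 1) hN ha ha1
  have hσ : σ a * σ a = 1 := by rw [← map_mul, haa, map_one]
  have hsucc : ∀ x, (π a - 1) * (π x - 1) = 0 := fun x => by
    have h := hN (fun i => if i = 0 then x else if i = 1 then a else 1) fun i => by
      rcases i with _ | _ | i
      exacts [mem_top _, ha, one_mem _]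
    simpa [prodOp] using h
  have hfixC : ∀ x, Fixes (σ a) (σ x) := fun x u hu => by
    by_contra hne
    apply ha1
    refine hinj ?_
    rw [map_one]
    refine Y.fix_of_eq_one F (sub_eq_zero.mp ?_)
    set w := u * (σ x u)⁻¹ with hw
    have hxu : σ x u ∈ fixS (σ a) := fix_of_commute ((hcen x).map σ) hu
    have hwf : w ∈ fixS (σ a) := mul_mem hu (inv_mem hxu)
    obtain ⟨t, ht, htw⟩ := exists_fix_pair F hr (Y.iso a) (m := 1) (by rw [pow_one, sq, hσ]) hwf
      fun h => hne (mul_inv_eq_one.mp h).symm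
    have h := Y.strip (L := π a - 1) (R := 1) (g := x) (u := u) (t := t) (by rw [mul_one]; exact hsucc x)
      (by rw [mul_one, mul_one]; have h' := hsucc x; rwa [mul_sub, mul_one, sub_eq_zero] at h')
      (Y.commute_fix_sub hu) (Commute.one_left _) (Y.commute_fix_sub hwf) (Y.commute_fix_sub ht)
      (Commute.one_left _) htw
    rwa [mul_one] at h
  refine ⟨?_, hfixC⟩
  obtain ⟨x, hx1, hxa⟩ : ∃ x : X, x ≠ 1 ∧ x ≠ a := by
    by_contra hall
    push Not at hall
    have hbot : dser (⊤ : Subgroup X) 1 ≤ ⊥ := commutator_le.mpr fun p _ q _ => by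
      rw [mem_bot, commutatorElement_eq_one_iff_mul_comm]
      rcases eq_or_ne p 1 with rfl | hp'
      · rw [one_mul, mul_one]
      · rw [hall p hp']; exact (hcen q).eq.symm
    exact ha1 (mem_bot.mp (hbot ha))
  have huniq : ∀ g : X, g * g = 1 → g ≠ 1 → g = a := fun g hg2 hg1 => by
    refine hinj (ext_split F hr hσ (fun v hv => ?_) fun s hs => by rw [hfixC g s hs, hs])
    have hgv : σ g v ∈ mov (σ a) := apply_mem_mov ((hcen g).map σ) hv
    rw [mem_mov.mp hv]
    refine eq_inv_of_mul_eq_one_right ?_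
    by_contra hne
    have hfix : σ g (v * σ g v) = v * σ g v := mem_fixS_mul_apply (by rw [← map_mul, hg2, map_one]) v
    have := Y.semireg F hr (hsucc g) hne (mem_mov.mp (mul_mem hv hgv)) hfix
    exact hg1 (hinj (by rw [Y.fix_of_eq_one F this, map_one]))
  obtain ⟨n, hn⟩ := exists_sq_eq Y.two hx1 hxa fun n h1 h2 => huniq _ h1 h2
  set z := x ^ n
  have hz4 : z ^ 4 = 1 := by rw [show 4 = 2 * 2 from rfl, pow_mul, hn, sq, haa]
  have h3 : (π z - 1) ^ 3 = 0 := by
    rw [pow_succ, sq, sub_one_mul_self, ← map_mul, ← sq, hn, hsucc z]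
  obtain ⟨σ1, π1, P1, Y1, hσ1, hπ1⟩ := Y.sub (mov (σ a)) (⊤ : Subgroup X) (⊤ : Submodule K W)
    (fun x _ h hh => apply_mem_mov ((hcen x).map σ) hh) (fun _ _ _ _ => trivial) (fun _ _ _ _ => trivial)
  have F1 := form_subgroup F (H := mov (σ a)) fun h hh h1 => F.nd_mov hr hσ (Y.iso a) hh h1
  haveI : Nontrivial (⊤ : Submodule K W) := Submodule.nontrivial_iff_ne_bot.mpr top_ne_bot
  refine Y1.card_le_nine F1 hr (z := ⟨z, mem_top z⟩) (Subtype.ext hz4) (fun s => Subtype.ext ?_)
    (LinearMap.ext fun v => Subtype.ext ?_)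
  · rw [hσ1, show (((⟨z, mem_top z⟩ : (⊤ : Subgroup X)) ^ 2 : (⊤ : Subgroup X)) : X) = a from hn]
    exact mem_mov.mp s.2
  · have e : ∀ (N : ℕ) (v : (⊤ : Submodule K W)),
        ((((π1 ⟨z, mem_top z⟩ - 1) ^ N) v : (⊤ : Submodule K W)) : W) = ((π z - 1) ^ N) v := by
      intro N
      induction N with
      | zero => intro v; rfl
      | succ N ih =>
        intro v
        rw [pow_succ, Module.End.mul_apply, pow_succ, Module.End.mul_apply, ih]
        congr 1
        simp [hπ1]
    rw [e, h3]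
    rfl

end Cfsg.Agent.Grp.BryD
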