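import Mathlib
import Cfsg.Agent.Lib.Grp.BryDer.LocalTwo
import Cfsg.Agent.Lib.Grp.BryDer.CenterInvolution

/-!
The local theorem: the last level acts on a section only if there are two levels, and then through a plane.
-/

set_option autoImplicit false
set_option linter.style.haveILetI false
set_option linter.unusedSectionVars false
set_option maxHeartbeats 1600000

namespace Cfsg.Agent.Grp.BryD

open Subgroup
open Cfsg.Agent.Grp.Gross (Form Isom mov mem_mov)
open Cfsg.Agent.Grp.Bry (Fixes ext_split exists_mem_mov_ne_one apply_mem_mov apply_fix)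
open scoped commutatorElement

universe u v w

/-- The conclusion of the local theorem. -/
def Conc {S : Type*} [CommGroup S] {X : Type*} [Group X] (σ : X →* MulAut S) (a : X) (e : ℕ) : Prop :=
  e = 2 ∧ Nat.card (mov (σ a)) ≤ 9 ∧ σ a * σ a = 1 ∧ (∀ x, Commute (σ x) (σ a)) ∧
    (∀ b ∈ dser (⊤ : Subgroup X) 1, σ b = 1 ∨ σ b = σ a) ∧ ∀ x, Fixes (σ a) (σ x)

variable {K : Type*} [Field K] [IsAlgClosed K] [CharP K 2] {r : ℕ} [hp : Fact r.Prime]

/-- The local theorem for groups of order below `n`. -/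
def LocalP (K : Type*) [Field K] (r n : ℕ) : Prop :=
  ∀ (S : Type u) [CommGroup S] [Finite S] (β : S → S → K), Nat.card S < n → Form r β →
    ∀ (W : Type v) [AddCommGroup W] [Module K W] [FiniteDimensional K W] [Nontrivial W]
      (X : Type w) [Group X] [Finite X] (σ : X →* MulAut S) (π : X →* Module.End K W)
      (P : S → Module.End K W), Sys β σ π P → ∀ e, Nilp π (⊤ : Subgroup X) e →
      ∀ a ∈ dser (⊤ : Subgroup X) (e - 1), σ a ≠ 1 → Conc σ a e

theorem two_pow_two (n : ℕ) (h : ∃ i, n = 2 ^ i) (h8 : n < 8) : n = 1 ∨ n = 2 ∨ n = 4 := by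
  obtain ⟨i, rfl⟩ := h
  rcases i with _ | _ | _ | i
  · exact Or.inl rfl
  · exact Or.inr (Or.inl rfl)
  · exact Or.inr (Or.inr rfl)
  · exfalso
    have := Nat.pow_le_pow_right (show 2 > 0 by norm_num) (show 3 ≤ i + 1 + 1 + 1 by omega)
    omega

theorem commute_of_card_lt_eight {G : Type*} [Group G] [Finite G] (hG : IsPGroup 2 G) (h : Nat.card G < 8)
    (p q : G) : p * q = q * p := by
  haveI : Fact (Nat.Prime 2) := ⟨Nat.prime_two⟩
  rcases two_pow_two _ hG.exists_card_eq h with e | e | e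
  · haveI : Subsingleton G := (Nat.card_eq_one_iff_unique.mp e).1
    exact Subsingleton.elim _ _
  · haveI : IsCyclic G := isCyclic_of_prime_card (p := 2) e
    exact (IsCyclic.commGroup (α := G)).mul_comm p q
  · exact IsPGroup.commutative_of_card_eq_prime_sq (p := 2) (by rw [e]; norm_num) p q

variable {S : Type u} [CommGroup S] [Finite S] {β : S → S → K} {W : Type v} [AddCommGroup W] [Module K W]
  [FiniteDimensional K W] [Nontrivial W] {X : Type w} [Group X] [Finite X]
  {σ : X →* MulAut S} {π : X →* Module.End K W} {P : S → Module.End K W}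

/-- Restricting to an invariant proper part on which the top element still acts. -/
theorem Sys.shrink (hIH : LocalP.{u, v, w} K r (Nat.card S)) (Y : Sys β σ π P) (F : Form r β) (hr : Odd r)
    {e : ℕ} (he : 3 ≤ e) (hN : Nilp π (⊤ : Subgroup X) e) {a : X} (ha : a ∈ dser (⊤ : Subgroup X) (e - 1))
    (H : Subgroup S) (hH : ∀ x, ∀ h ∈ H, σ x h ∈ H) (hnd : ∀ h ∈ H, h ≠ 1 → ∃ b ∈ H, β h b ≠ 1)
    (hproper : H ≠ ⊤) {h0 : S} (h0H : h0 ∈ H) (ha0 : σ a h0 ≠ h0) : False := by
  obtain ⟨σ1, π1, P1, Y1, hσ1, hπ1⟩ := Y.sub H (⊤ : Subgroup X) (⊤ : Submodule K W) (fun x _ => hH x)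
    (fun _ _ _ _ => trivial) (fun _ _ _ _ => trivial)
  haveI : Nontrivial (⊤ : Submodule K W) := Submodule.nontrivial_iff_ne_bot.mpr top_ne_bot
  have hN1 : Nilp π1 (⊤ : Subgroup ↥(⊤ : Subgroup X)) e := nilp_sub (φ := (⊤ : Subgroup X).subtype)
    (fun x v => hπ1 x v) fun f hf v _ => by
      show prodOp π (fun i => (f i : X)) e v = 0
      rw [hN (fun i => (f i : X)) fun i => coe_mem_dser (hf i)]; rfl
  obtain ⟨hat, ha'⟩ := mem_dser_top ha
  have hcard : Nat.card H < Nat.card S :=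
    lt_of_le_of_ne (Subgroup.card_le_card_group H) fun h => hproper (Subgroup.eq_top_of_card_eq H h)
  have h1 := (hIH H _ hcard (form_subgroup F hnd) (⊤ : Submodule K W) _ σ1 π1 P1 Y1 e hN1 ⟨a, hat⟩ ha'
    fun h => ha0 (by
      have := congrArg (fun φ : MulAut H => ((φ ⟨h0, h0H⟩ : H) : S)) h
      simpa [hσ1] using this)).1
  omega

/-- Three or more levels are impossible. -/
theorem Sys.core_high (hIH : LocalP.{u, v, w} K r (Nat.card S)) (Y : Sys β σ π P) (F : Form r β) (hr : Odd r)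
    (hinj : Function.Injective σ) {k : ℕ} (hN : Nilp π (⊤ : Subgroup X) (k + 3)) {a : X}
    (ha : a ∈ dser (⊤ : Subgroup X) (k + 2)) (ha1 : a ≠ 1) : False := by
  classical
  haveI : Fact (Nat.Prime 2) := ⟨Nat.prime_two⟩
  obtain ⟨haa, hcen, huni⟩ := Y.top_unique F hr hinj (e := k + 2) hN ha ha1
  have hσa : σ a * σ a = 1 := by rw [← map_mul, haa, map_one]
  have hσ1 : σ a ≠ 1 := fun h => ha1 (hinj (by rw [h, map_one]))
  have hker : ∀ x, π x = 1 → x = 1 := fun x hx => hinj (by rw [Y.fix_of_eq_one F hx, map_one])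
  -- `a` inverts everything
  obtain ⟨u0, hu0, hu01⟩ := exists_mem_mov_ne_one F hr hσa hσ1
  have hau0 : σ a u0 ≠ u0 := fun h => hu01 (fixS_inf_mov F hr h hu0)
  have hainv : ∀ s, σ a s = s⁻¹ := by
    by_contra hne
    refine Y.shrink hIH F hr (e := k + 3) (by omega) hN (a := a) ha (mov (σ a))
      (fun x h hh => apply_mem_mov ((hcen x).map σ) hh) (fun h hh h1 => F.nd_mov hr hσa (Y.iso a) hh h1)
      (fun h => hne fun s => mem_mov.mp (h ▸ mem_top s)) hu0 hau0
  have hane : ∀ s, s ≠ 1 → σ a s ≠ s := fun s hs h => hs (F.eq_one_of_sq hr (by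
    rw [hainv] at h; exact inv_eq_iff_mul_eq_one.mp h))
  -- the involution `y`
  haveI hNn : (dser (⊤ : Subgroup X) (k + 1)).Normal :=
    ⟨fun n hn x => dser_conj_of_mem (mem_top x) hn⟩
  obtain ⟨y, hyN, hy2, hy1, hya, hyc, hyx⟩ := exists_center_involution Y.two
    (N := dser (⊤ : Subgroup X) (k + 1)) (dser_anti _ (show 1 ≤ k + 1 by omega)) (a := a) ha ha1 haa
    (mem_center_iff.mpr fun x => (hcen x).eq)
  have hσy : σ y * σ y = 1 := by rw [← map_mul, hy2, map_one]
  set P1 := fixS (σ y) with hP1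
  set P2 := mov (σ y) with hP2
  set y' := a * y with hy'
  have hy'2 : y' * y' = 1 := by rw [hy', show a * y * (a * y) = a * (y * a) * y by group, ← (hcen y).symm.eq,
    show a * (a * y) * y = (a * a) * (y * y) by group, haa, hy2, one_mul]
  have hy'app : ∀ s, σ y' s = (σ y s)⁻¹ := fun s => by rw [hy', map_mul, MulAut.mul_apply, hainv]
  have hy'P2 : ∀ s ∈ P2, σ y' s = s := fun s hs => by rw [hy'app, mem_mov.mp hs, inv_inv]
  have hy'P1 : ∀ s ∈ P1, σ y' s = s⁻¹ := fun s hs => by rw [hy'app, show σ y s = s from hs]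
  obtain ⟨p1, hp1, hp11⟩ : ∃ p ∈ P1, p ≠ 1 := by
    by_contra hall
    push Not at hall
    refine hya (hinj (MulEquiv.ext fun s => ?_))
    have h := hall _ (mem_fixS_mul_apply hσy s)
    rw [hainv, eq_inv_iff_mul_eq_one, mul_comm, h]
  obtain ⟨p2, hp2, hp21⟩ : ∃ p ∈ P2, p ≠ 1 :=
    exists_mem_mov_ne_one F hr hσy fun h => hy1 (hinj (by rw [h, map_one]))
  have hP1top : P1 ≠ ⊤ := fun h => hp21 (fixS_inf_mov F hr (show p2 ∈ P1 from h.symm ▸ mem_top p2) hp2)
  obtain ⟨σ0, hσ0⟩ : ∃ x, x * y * x⁻¹ = y' := by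
    by_contra hall
    push Not at hall
    refine Y.shrink hIH F hr (e := k + 3) (by omega) hN (a := a) ha P1 (fun x h hh => ?_)
      (fun h hh h1 => nd_fixS F hr hσy (Y.iso y) hh h1) hP1top hp1 (hane p1 hp11)
    exact fix_of_commute (Commute.map (mul_inv_eq_iff_eq_mul.mp ((hyx x).resolve_right (hall x)) : Commute x y) σ) hh
  set Xy := centralizer ({y} : Set X) with hXy
  have hXyc : ∀ x ∈ Xy, Commute x y := fun x hx => mem_centralizer_singleton_iff.mp hx
  have hD1 : dser (⊤ : Subgroup X) 1 ≤ Xy := fun g hg => mem_centralizer_singleton_iff.mpr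
    (commutator_fixes (w := y) (fun x => by
      rcases hyx x with h | h
      · exact ⟨1, one_mem _, by rw [h, one_mul]⟩
      · exact ⟨a, mem_center_iff.mpr fun z => (hcen z).eq, h⟩) g hg).eq
  have hidx : ∀ x, x ∈ Xy ∨ σ0⁻¹ * x ∈ Xy := fun x => (hyx x).imp
    (fun h => mem_centralizer_singleton_iff.mpr (mul_inv_eq_iff_eq_mul.mp h)) fun h => by
      rw [← hσ0] at h
      refine mem_centralizer_singleton_iff.mpr (mul_inv_eq_iff_eq_mul.mp ?_)
      rw [show σ0⁻¹ * x * y * (σ0⁻¹ * x)⁻¹ = σ0⁻¹ * (x * y * x⁻¹) * σ0 by group, h]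
      group
  -- the block representation
  set A2 := π y - 1 with hA2
  have hA2sq : A2 * A2 = 0 := by rw [hA2, sub_one_mul_self, ← map_mul, hy2, map_one, sub_self]
  set W' := LinearMap.range A2 with hW'
  have hA2x : ∀ x ∈ Xy, Commute A2 (π x) := fun x hx =>
    ((hXyc x hx).symm.map π).sub_left (Commute.one_left _)
  have hWx : ∀ x ∈ Xy, ∀ v ∈ W', π x v ∈ W' := by
    rintro x hx _ ⟨v, rfl⟩
    exact ⟨π x v, LinearMap.congr_fun (hA2x x hx).eq v⟩
  have hWP : ∀ h ∈ P1, ∀ v ∈ W', P h v ∈ W' := by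
    rintro h hh _ ⟨v, rfl⟩
    exact ⟨P h v, LinearMap.congr_fun (Y.commute_fix_sub (x := y) hh).eq v⟩
  haveI : Nontrivial W' := Submodule.nontrivial_iff_ne_bot.mpr fun h => hy1 (hker y
    (sub_eq_zero.mp (LinearMap.range_eq_bot.mp h)))
  have hXP1 : ∀ x ∈ Xy, ∀ h ∈ P1, σ x h ∈ P1 := fun x hx h hh => fix_of_commute ((hXyc x hx).map σ) hh
  have hXP2 : ∀ x ∈ Xy, ∀ h ∈ P2, σ x h ∈ P2 := fun x hx h hh => apply_mem_mov ((hXyc x hx).map σ) hh
  -- the descent
  have hdesc : ∀ g : ℕ → X, (∀ i, g i ∈ dser (⊤ : Subgroup X) (1 + i)) →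
      prodOp π g (k + 2) * A2 = 0 := by
    intro g hg
    rw [prodOp_succ]
    have hgk : g (k + 1) ∈ dser (⊤ : Subgroup X) (k + 2) := by
      have := hg (k + 1); rwa [show 1 + (k + 1) = k + 2 by omega] at this
    rcases huni _ hgk with h | h
    · rw [h, map_one, sub_self, zero_mul, zero_mul]
    rw [h, mul_assoc]
    let f' : ℕ → X := fun i => if i = k + 2 then a else if i = k + 1 then y else if i ≤ k then g i else 1
    have h1 := hN f' fun i => by
      show (if i = k + 2 then a else if i = k + 1 then y else if i ≤ k then g i else 1) ∈ _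
      split_ifs with h1 h2 h3
      · exact h1 ▸ ha
      · exact h2 ▸ hyN
      · exact dser_anti _ (by omega) (hg i)
      · exact one_mem _
    have hc : Commute A2 (prodOp π g (k + 1)) :=
      commute_prodOp π fun i _ => hA2x _ (hD1 (dser_anti _ (by omega) (hg i)))
    rw [prodOp_succ, prodOp_succ, prodOp_congr π (f' := g) fun i hi => by
      show (if i = k + 2 then a else if i = k + 1 then y else if i ≤ k then g i else 1) = g i
      rw [if_neg (by omega), if_neg (by omega), if_pos (by omega)],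
      show f' (k + 2) = a from if_pos rfl,
      show f' (k + 1) = y from (if_neg (by omega)).trans (if_pos rfl), ← hA2, hc.eq] at h1
    exact h1
  obtain ⟨σY, πY, PY, YY, hσY, hπY⟩ := Y.sub P1 (dser (⊤ : Subgroup X) 1) W'
    (fun x hx => hXP1 x (hD1 hx)) (fun x hx => hWx x (hD1 hx)) hWP
  have FP := form_subgroup F (H := P1) fun h hh h1 => nd_fixS F hr hσy (Y.iso y) hh h1
  have hNY : Nilp πY (⊤ : Subgroup ↥(dser (⊤ : Subgroup X) 1)) (k + 2) :=
    nilp_sub (φ := (dser (⊤ : Subgroup X) 1).subtype) (fun x v => hπY x v) fun f hf v hv => by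
      obtain ⟨v', rfl⟩ := hv
      rw [← Module.End.mul_apply]
      refine (LinearMap.congr_fun (hdesc (fun i => (f i : X)) fun i => ?_) v').trans (LinearMap.zero_apply v')
      have := coe_mem_dser (hf i)
      rwa [dser_add] at this
  have haY : a ∈ dser (dser (⊤ : Subgroup X) 1) (k + 1) := by
    rw [dser_add, show 1 + (k + 1) = k + 2 by omega]; exact ha
  obtain ⟨haD, haY'⟩ := mem_dser_top haY
  have hcard : Nat.card P1 < Nat.card S :=
    lt_of_le_of_ne (Subgroup.card_le_card_group P1) fun h => hP1top (Subgroup.eq_top_of_card_eq P1 h)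
  have hane1 : σY ⟨a, haD⟩ ≠ 1 := fun h => hane p1 hp11 (by
    have := congrArg (fun φ : MulAut P1 => ((φ ⟨p1, hp1⟩ : P1) : S)) h
    simpa [hσY] using this)
  obtain ⟨hk, hc9, -⟩ := hIH P1 _ hcard FP W' _ σY πY PY YY (k + 2) hNY ⟨a, haD⟩
    (by rw [show k + 2 - 1 = k + 1 by omega]; exact haY') hane1
  obtain rfl : k = 0 := by omega
  have hP1c : Nat.card P1 ≤ 9 := by
    refine le_trans (le_of_eq ?_) hc9
    rw [show mov (σY ⟨a, haD⟩) = ⊤ from top_le_iff.mp fun h _ => Subtype.ext (by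
      rw [hσY]; exact hainv h)]
    exact (Nat.card_congr Subgroup.topEquiv.toEquiv).symm
  -- three levels: the block group is semiregular
  obtain ⟨σX, πX, PX, YX, hσX, hπX⟩ := Y.sub P1 Xy W' hXP1 hWx hWP
  have hl3 : ∀ x b : X, b ∈ dser (⊤ : Subgroup X) 1 → (π a - 1) * ((π b - 1) * (π x - 1)) = 0 := fun x b hb => by
    have h := hN (fun i => if i = 0 then x else if i = 1 then b else if i = 2 then a else 1) fun i => by
      rcases i with _ | _ | _ | i
      exacts [mem_top _, hb, ha, one_mem _]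
    simpa [prodOp] using h
  have haXy : a ∈ Xy := mem_centralizer_singleton_iff.mpr (hcen y).symm.eq
  have hsemi : ∀ x : Xy, ∀ h : P1, h ≠ 1 → σX x h = h → σX x = 1 := fun x h hh hxh => by
    refine YX.fix_of_eq_one FP (YX.semireg FP hr (a := ⟨a, haXy⟩) ?_ hh ?_ hxh)
    · refine LinearMap.ext fun v => Subtype.ext ?_
      obtain ⟨v', hv'⟩ := v.2
      simp only [Module.End.mul_apply, LinearMap.sub_apply, Module.End.one_apply, Submodule.coe_sub, hπX,
        LinearMap.zero_apply, Submodule.coe_zero]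
      have h1 := LinearMap.congr_fun (hl3 x y hyN) v'
      rw [(((hA2x x x.2).symm).sub_left (Commute.one_left _)).symm.eq] at h1
      simpa [← hv', hA2] using h1
    · exact Subtype.ext (by rw [hσX]; exact hainv h)
  have hQ8 : Nat.card σX.range ≤ 8 := by
    let φ : σX.range → {h : P1 // h ≠ 1} := fun g => ⟨(g : MulAut P1) ⟨p1, hp1⟩, fun e => hp11 (by
      have := congrArg Subtype.val ((MulEquiv.map_eq_one_iff _).mp e); exact this)⟩
    have hφ : Function.Injective φ := by
      rintro ⟨_, x, rfl⟩ ⟨_, x', rfl⟩ e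
      have e' : σX x ⟨p1, hp1⟩ = σX x' ⟨p1, hp1⟩ := congrArg Subtype.val e
      have h1 := hsemi (x'⁻¹ * x) ⟨p1, hp1⟩ (fun h => hp11 (congrArg Subtype.val h))
        (by rw [map_mul, map_inv, MulAut.mul_apply, e', MulAut.inv_apply_self])
      rw [map_mul, map_inv, inv_mul_eq_one] at h1
      exact Subtype.ext h1.symm
    refine (Nat.card_le_card_of_injective φ hφ).trans ?_
    haveI := Fintype.ofFinite P1
    rw [Nat.card_eq_fintype_card, Fintype.card_subtype_compl, Fintype.card_subtype_eq, ← Nat.card_eq_fintype_card]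
    omega
  set D := (dser (⊤ : Subgroup X) 1).subgroupOf Xy with hD
  have hDQ : D.map σX = σX.range := by
    refine eq_of_le_of_card_ge (map_le_range _ _) (le_trans hQ8 ?_)
    by_contra hlt
    refine hane p1 hp11 ?_
    have hcomm := commute_of_card_lt_eight ((YX.two.to_subgroup D).map σX) (by omega)
    let μ : ↥(dser (⊤ : Subgroup X) 1) →* MulAut P1 := σX.comp (Subgroup.inclusion hD1)
    have hle : ⁅(⊤ : Subgroup ↥(dser (⊤ : Subgroup X) 1)), ⊤⁆ ≤ μ.ker := commutator_le.mpr fun p _ q _ => by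
      rw [MonoidHom.mem_ker, map_commutatorElement, commutatorElement_eq_one_iff_mul_comm]
      exact congrArg Subtype.val (hcomm ⟨μ p, _, mem_subgroupOf.mpr p.2, rfl⟩ ⟨μ q, _, mem_subgroupOf.mpr q.2, rfl⟩)
    have h1 : μ ⟨a, haD⟩ = 1 := hle (by exact haY')
    have h2 := congrArg (fun φ : MulAut P1 => ((φ ⟨p1, hp1⟩ : P1) : S)) h1
    simpa [μ, hσX] using h2
  -- the elements supported on the first block
  by_cases hcase : ∃ x ∈ Xy, (∀ s ∈ P2, σ x s = s) ∧ x ≠ 1 ∧ x ≠ y'
  · obtain ⟨x0, hx0, hx0P2, hx01, hx0y⟩ := hcase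
    set K2 : Subgroup X :=
      { carrier := {x | x ∈ Xy ∧ ∀ s ∈ P2, σ x s = s}
        one_mem' := ⟨one_mem _, fun s _ => by rw [map_one, MulAut.one_apply]⟩
        mul_mem' := fun {p q} hp hq => ⟨mul_mem hp.1 hq.1, fun s hs => by
          rw [map_mul, MulAut.mul_apply, hq.2 s hs, hp.2 s hs]⟩
        inv_mem' := fun {p} hp => ⟨inv_mem hp.1, fun s hs => by
          rw [map_inv]
          conv_lhs => rw [← hp.2 s hs]
          rw [MulAut.inv_apply_self]⟩ }
    have hK2 : ∀ {x}, x ∈ K2 → x ∈ Xy ∧ ∀ s ∈ P2, σ x s = s := fun h => h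
    have hblock : ∀ x x' : X, (∀ s ∈ P1, σ x s = σ x' s) → (∀ s ∈ P2, σ x s = σ x' s) → x = x' := fun x x' h1 h2 =>
      hinj (ext_split F hr hσy h2 fun s hs => h1 s hs)
    have hK2inv : ∀ g ∈ K2, g * g = 1 → g ≠ 1 → g = y' := fun g hg hg2 hg1 => by
      refine hblock _ _ (fun s hs => ?_) fun s hs => by rw [(hK2 hg).2 s hs, hy'P2 s hs]
      rw [hy'P1 s hs]
      refine eq_inv_of_mul_eq_one_right ?_
      by_contra hne
      have hgs : σ g s ∈ P1 := hXP1 g (hK2 hg).1 s hs
      have hfix : σ g (s * σ g s) = s * σ g s := mem_fixS_mul_apply (by rw [← map_mul, hg2, map_one]) s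
      have h1 := hsemi ⟨g, (hK2 hg).1⟩ ⟨_, mul_mem hs hgs⟩ (fun e => hne (congrArg Subtype.val e))
        (Subtype.ext (by rw [hσX]; exact hfix))
      refine hg1 (hblock _ _ (fun t ht => ?_) fun t ht => by rw [(hK2 hg).2 t ht, map_one, MulAut.one_apply])
      have h2 := congrArg (fun φ : MulAut P1 => ((φ ⟨t, ht⟩ : P1) : S)) h1
      simpa [hσX] using h2
    obtain ⟨n, hn⟩ := exists_sq_eq Y.two hx01 hx0y
      fun n h1 h2 => hK2inv _ (K2.pow_mem (show x0 ∈ K2 from ⟨hx0, hx0P2⟩) n) h1 h2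
    set z := x0 ^ n with hz
    have hzK : z ∈ K2 := K2.pow_mem (show x0 ∈ K2 from ⟨hx0, hx0P2⟩) n
    set A := π a - 1 with hA
    set A1 := π y' - 1 with hA1
    have hay : π a = π y' * π y := by rw [← map_mul, hy', mul_assoc, hy2, mul_one]
    have hAA2 : A * A2 = A1 * A2 := by
      have h : A = A1 * A2 + A1 + A2 := by
        rw [hA, hA1, hA2, hay, sub_mul, mul_sub, mul_one, one_mul]; abel
      rw [h, add_mul, add_mul, mul_assoc, hA2sq, mul_zero, zero_add, add_zero]
    have hcube : ∀ w ∈ K2, w * w = y' → (π w - 1) * (π w - 1) * (π w - 1) = 0 := fun w hw hw2 => by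
      rw [sub_one_mul_self, ← map_mul, hw2, ← hA1]
      obtain ⟨t, ht, htw⟩ := F.nd_mov hr hσy (Y.iso y) (mul_mem hp2 hp2) (sq_ne_one_of F hr hp21)
      have hwu : σ w p2 = p2 := (hK2 hw).2 p2 hp2
      have h12 : A1 * A2 * (π w - 1) = 0 := by
        rw [← hAA2, mul_assoc]; exact hl3 w y hyN
      have e : p2 * (σ y p2)⁻¹ = p2 * p2 := by rw [mem_mov.mp hp2, inv_inv]
      refine Y.strip (L := A1) (R := π w - 1) (g := y) (u := p2) (t := t) h12 ?_
        (Y.commute_fix_sub (hy'P2 p2 hp2)) (Y.commute_fix_sub hwu)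
        (Y.commute_fix_sub (hy'P2 _ (by rw [e]; exact mul_mem hp2 hp2))) (Y.commute_fix_sub (hy'P2 t ht))
        (Y.commute_fix_sub ((hK2 hw).2 t ht)) (by rw [e]; exact fun h => htw (F.swap_eq_one h))
      rw [show A1 * π y = A1 * A2 + A1 by rw [hA2, mul_sub, mul_one, sub_add_cancel], add_mul, h12, zero_add]
    obtain ⟨z3, hz3⟩ : ∃ z3, z3 = σ0 * z⁻¹ * σ0⁻¹ := ⟨_, rfl⟩
    have hzy : z * z = y' := by rw [← sq]; exact hn
    have hzy' : z⁻¹ * z⁻¹ = y' := by rw [← mul_inv_rev, hzy, inv_eq_of_mul_eq_one_right hy'2]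
    have hσ0' : σ0 * y' * σ0⁻¹ = y := by
      rw [hy', show σ0 * (a * y) * σ0⁻¹ = (σ0 * a * σ0⁻¹) * (σ0 * y * σ0⁻¹) by group, hσ0,
        (hcen σ0).mul_inv_cancel, hy', ← mul_assoc, haa, one_mul]
    have hz3y : z3 * z3 = y := by
      rw [hz3, show σ0 * z⁻¹ * σ0⁻¹ * (σ0 * z⁻¹ * σ0⁻¹) = σ0 * (z⁻¹ * z⁻¹) * σ0⁻¹ by group, hzy', hσ0']
    set n1 := π z - 1 with hn1
    set n3 := π z3 - 1 with hn3
    have hA1n : n1 * n1 = A1 := by rw [hn1, sub_one_mul_self, ← map_mul, hzy, hA1]
    have hA2n : n3 * n3 = A2 := by rw [hn3, sub_one_mul_self, ← map_mul, hz3y, hA2]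
    have hc1 : n1 * n1 * n1 = 0 := hcube z hzK hzy
    have hc3 : n3 * n3 * n3 = 0 := by
      have e : n3 = π σ0 * (π z⁻¹ - 1) * π σ0⁻¹ := by
        rw [mul_sub, sub_mul, mul_one, hn3, hz3, map_mul, map_mul,
          show π σ0 * π σ0⁻¹ = 1 by rw [← map_mul, mul_inv_cancel, map_one]]
      have hu : π σ0⁻¹ * π σ0 = 1 := by rw [← map_mul, inv_mul_cancel, map_one]
      set N := π z⁻¹ - 1
      calc n3 * n3 * n3 = π σ0 * N * (π σ0⁻¹ * π σ0) * N * (π σ0⁻¹ * π σ0) * N * π σ0⁻¹ := by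
            rw [e]; simp only [mul_assoc]
        _ = π σ0 * (N * N * N) * π σ0⁻¹ := by rw [hu]; simp only [mul_one, mul_assoc]
        _ = 0 := by rw [hcube _ (K2.inv_mem hzK) hzy', mul_zero, zero_mul]
    have hσ0P : ∀ s ∈ P1, σ σ0⁻¹ s ∈ P2 := fun s hs => by
      show σ y (σ σ0⁻¹ s) = (σ σ0⁻¹ s)⁻¹
      have h1 : y * σ0⁻¹ = σ0⁻¹ * y' := by rw [← hσ0]; group
      rw [← MulAut.mul_apply, ← map_mul, h1, map_mul, MulAut.mul_apply, hy'P1 s hs, map_inv]
    have hz3P1 : ∀ s ∈ P1, σ z3 s = s := fun s hs => by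
      rw [hz3, map_mul, map_mul, MulAut.mul_apply, MulAut.mul_apply, (hK2 (K2.inv_mem hzK)).2 _ (hσ0P s hs),
        ← MulAut.mul_apply, ← map_mul, mul_inv_cancel, map_one, MulAut.one_apply]
    have hz3X : z3 ∈ Xy := mem_centralizer_singleton_iff.mpr (by
      conv_lhs => rw [← hz3y, ← mul_assoc]
      conv_rhs => rw [← hz3y])
    have hzz3 : Commute z z3 := hblock _ _
      (fun s hs => by rw [map_mul, map_mul, MulAut.mul_apply, MulAut.mul_apply, hz3P1 s hs,
        hz3P1 _ (hXP1 z (hK2 hzK).1 s hs)])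
      fun s hs => by rw [map_mul, map_mul, MulAut.mul_apply, MulAut.mul_apply, (hK2 hzK).2 _ (hXP2 z3 hz3X s hs),
        (hK2 hzK).2 s hs]
    have hn13 : Commute n1 n3 := ((hzz3.map π).sub_left (Commute.one_left _)).sub_right (Commute.one_right _)
    obtain ⟨g, hg⟩ : ∃ g, g = z * z3 := ⟨_, rfl⟩
    have hgD : g ∈ dser (⊤ : Subgroup X) 1 := by
      rw [hg, hz3, show z * (σ0 * z⁻¹ * σ0⁻¹) = ⁅z, σ0⁆ by rw [commutatorElement_def]; group]
      exact commutator_mem_commutator (mem_top _) (mem_top _)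
    have key : A2 * A1 = 0 := by
      have h := hl3 z g hgD
      rw [← hn1] at h
      have hA' : A * n1 = n3 * n3 * n1 := by
        have : A = A1 * A2 + A1 + A2 := by
          rw [hA, hA1, hA2, hay, sub_mul, mul_sub, mul_one, one_mul]; abel
        rw [this, ← hA1n, ← hA2n, add_mul, add_mul, mul_assoc (n1 * n1), ((hn13.symm.mul_left hn13.symm)).eq,
          ← mul_assoc (n1 * n1), hc1, zero_mul, zero_add, zero_add]
      have hg' : π g - 1 = n1 + n3 * (π z) := by
        rw [hg, map_mul, (hzz3.map π).eq, hn1, hn3, sub_mul, one_mul]; abel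
      have hgn : (π g - 1) * n1 = n1 * (π g - 1) := by
        refine ((Commute.sub_left ?_ (Commute.one_left _)) : Commute (π g - 1) n1).eq
        rw [hg]
        exact ((((Commute.refl z).mul_left hzz3.symm)).map π).sub_right (Commute.one_right _)
      rw [hgn, ← mul_assoc, hA', hg', mul_add, ← mul_assoc (n3 * n3 * n1),
        mul_assoc (n3 * n3) n1 n3, hn13.eq, ← mul_assoc (n3 * n3), hc3, zero_mul, zero_mul, add_zero,
        mul_assoc, hA1n, hA2n] at h
      exact h
    obtain ⟨t, ht, htw⟩ := nd_fixS F hr hσy (Y.iso y) (mul_mem hp1 hp1) (sq_ne_one_of F hr hp11)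
    have e : p1 * (σ y' p1)⁻¹ = p1 * p1 := by rw [hy'P1 p1 hp1, inv_inv]
    have hfin := Y.strip (L := A2) (R := 1) (g := y') (u := p1) (t := t) (by rw [mul_one, ← hA1]; exact key)
      (by rw [mul_one, mul_one]; rwa [hA1, mul_sub, mul_one, sub_eq_zero] at key)
      (Y.commute_fix_sub hp1) (Commute.one_left _) (Y.commute_fix_sub (by rw [e]; exact mul_mem hp1 hp1))
      (Y.commute_fix_sub ht) (Commute.one_left _) (by rw [e]; exact fun h => htw (F.swap_eq_one h))
    rw [mul_one, hA2, sub_eq_zero] at hfin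
    exact hy1 (hker y hfin)
  · push Not at hcase
    have hy'D : y' ∈ dser (⊤ : Subgroup X) 1 := mul_mem (dser_succ_le _ 1 ha) hyN
    have hsub : Xy ≤ dser (⊤ : Subgroup X) 1 := fun x hx => by
      obtain ⟨g, hg, hgx⟩ : σX ⟨x, hx⟩ ∈ D.map σX := hDQ ▸ ⟨⟨x, hx⟩, rfl⟩
      set d := x * (g : X)⁻¹ with hd
      have hdX : d ∈ Xy := mul_mem hx (inv_mem g.2)
      have hd1 : ∀ s ∈ P1, σ d s = s := fun s hs => by
        have h1 : σX ⟨d, hdX⟩ = 1 := by
          rw [show (⟨d, hdX⟩ : Xy) = ⟨x, hx⟩ * g⁻¹ from rfl, map_mul, map_inv, hgx, mul_inv_cancel]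
        have := congrArg (fun φ : MulAut P1 => ((φ ⟨s, hs⟩ : P1) : S)) h1
        simpa [hσX] using this
      set d' := σ0⁻¹ * d * σ0 with hd'
      have hd'X : d' ∈ Xy := by
        refine mem_centralizer_singleton_iff.mpr (mul_inv_eq_iff_eq_mul.mp ?_)
        have hdy' : d * y' * d⁻¹ = y' := by
          rw [hy', show d * (a * y) * d⁻¹ = (d * a * d⁻¹) * (d * y * d⁻¹) by group, (hcen d).mul_inv_cancel,
            (hXyc d hdX).mul_inv_cancel]
        rw [hd', show σ0⁻¹ * d * σ0 * y * (σ0⁻¹ * d * σ0)⁻¹ = σ0⁻¹ * (d * (σ0 * y * σ0⁻¹) * d⁻¹) * σ0 by group,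
          hσ0, hdy', ← hσ0]
        group
      have hd'2 : ∀ s ∈ P2, σ d' s = s := fun s hs => by
        have h1 : σ σ0 s ∈ P1 := by
          show σ y (σ σ0 s) = σ σ0 s
          have : y * σ0 = σ0 * y' := by
            rw [← mul_inv_eq_iff_eq_mul.mp (show σ0 * y' * σ0⁻¹ = y by
              rw [hy', show σ0 * (a * y) * σ0⁻¹ = (σ0 * a * σ0⁻¹) * (σ0 * y * σ0⁻¹) by group, hσ0,
                (hcen σ0).mul_inv_cancel, hy', ← mul_assoc, haa, one_mul])]
          rw [← MulAut.mul_apply, ← map_mul, this, map_mul, MulAut.mul_apply, hy'P2 s hs]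
        rw [hd', map_mul, map_mul, MulAut.mul_apply, MulAut.mul_apply, hd1 _ h1, ← MulAut.mul_apply, ← map_mul,
          inv_mul_cancel, map_one, MulAut.one_apply]
      have hd'D : d' ∈ dser (⊤ : Subgroup X) 1 := by
        rcases eq_or_ne d' 1 with h | h
        · rw [h]; exact one_mem _
        · rw [hcase d' hd'X hd'2 h]; exact hy'D
      have hdD : d ∈ dser (⊤ : Subgroup X) 1 := by
        have := dser_conj_of_mem (mem_top σ0) hd'D
        rwa [hd', show σ0 * (σ0⁻¹ * d * σ0) * σ0⁻¹ = d by group] at this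
      have := mul_mem hdD (show (g : X) ∈ dser (⊤ : Subgroup X) 1 from hg)
      rwa [hd, inv_mul_cancel_right] at this
    have htop : zpowers σ0 ⊔ frattini X = ⊤ := by
      refine top_le_iff.mp fun x _ => ?_
      rcases hidx x with h | h
      · exact mem_sup_right (pGroup_commutator_le_frattini Y.two (hsub h))
      · have h1 := mul_mem (mem_sup_left (T := frattini X) (mem_zpowers σ0))
          (mem_sup_right (S := zpowers σ0) (pGroup_commutator_le_frattini Y.two (hsub h)))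
        rwa [mul_inv_cancel_left] at h1
    have hcyc := frattini_nongenerating htop
    have hbot : dser (⊤ : Subgroup X) 1 ≤ ⊥ := commutator_le.mpr fun p _ q _ => by
      rw [mem_bot, commutatorElement_eq_one_iff_mul_comm]
      obtain ⟨i, rfl⟩ := mem_zpowers_iff.mp (hcyc ▸ mem_top p : p ∈ zpowers σ0)
      obtain ⟨j, rfl⟩ := mem_zpowers_iff.mp (hcyc ▸ mem_top q : q ∈ zpowers σ0)
      exact ((Commute.refl σ0).zpow_zpow i j).eq
    exact ha1 (mem_bot.mp (hbot (dser_succ_le _ 1 ha)))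

omit [Nontrivial W] in
/-- The inductive step. -/
theorem local_step (hr : Odd r) {n : ℕ} (ih : LocalP.{u, v, u} K r n) : LocalP.{u, v, w} K r (n + 1) := by
    intro S _ _ β hS F W _ _ _ _ X _ _ σ π P Y e hN a ha hσa
    have hIH : LocalP.{u, v, u} K r (Nat.card S) :=
      fun S' _ _ β' h => ih S' β' (lt_of_lt_of_le h (Nat.lt_succ_iff.mp hS))
    rcases e with _ | _ | e
    · exfalso
      have h : π a = 1 := hN.eq_one (by simpa using ha)
      exact hσa (Y.fix_of_eq_one F h)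
    · exfalso
      have h : π a = 1 := by
        have h1 := hN (fun i => if i = 0 then a else 1) fun i => by
          rcases i with _ | i
          exacts [mem_top _, one_mem _]
        simpa [prodOp, sub_eq_zero] using h1
      exact hσa (Y.fix_of_eq_one F h)
    obtain ⟨W1, π1, P1, hW1, Y1, hN1⟩ := Y.exists_faithful hN
    set ab := σ.rangeRestrict a with hab
    have hpush : ∀ i, ∀ g ∈ dser (⊤ : Subgroup X) i, σ.rangeRestrict g ∈ dser (⊤ : Subgroup σ.range) i := by
      intro i g hg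
      rw [← map_top_of_surjective _ σ.rangeRestrict_surjective, ← map_dser]
      exact ⟨g, hg, rfl⟩
    have hab1 : ab ≠ 1 := fun h => hσa (congrArg Subtype.val h)
    have hinj : Function.Injective σ.range.subtype := σ.range.subtype_injective
    rcases e with _ | k
    · obtain ⟨haa, hcen, huni⟩ := Y1.top_unique F hr hinj (e := 1) hN1 (hpush _ a ha) hab1
      obtain ⟨hc, hfix⟩ := Y1.core_two F hr hinj hN1 (hpush _ a ha) hab1
      refine ⟨rfl, hc, congrArg Subtype.val haa, fun x => congrArg Subtype.val (hcen (σ.rangeRestrict x)).eq,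
        fun b hb => ?_, fun x => hfix (σ.rangeRestrict x)⟩
      exact (huni _ (hpush _ b hb)).imp (congrArg Subtype.val) (congrArg Subtype.val)
    · exfalso
      -- the faithful group has the same universe
      exact Y1.core_high hIH F hr hinj (k := k) hN1 (hpush _ a ha) hab1

/-- The local theorem. -/
theorem local_all (hr : Odd r) (n : ℕ) : LocalP.{u, v, w} K r n := by
  have aux : ∀ n, LocalP.{u, v, u} K r n := by
    intro n
    induction n with
    | zero => intro S _ _ β h; omega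
    | succ n ih => exact local_step hr ih
  cases n with
  | zero => intro S _ _ β h; omega
  | succ n => exact local_step hr (aux n)

end Cfsg.Agent.Grp.BryD
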