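import Mathlib
import Cfsg.Agent.Lib.Grp.BryTwo.Sections
import Cfsg.Agent.Lib.Grp.BryDer.LocalMain

/-!
The deep levels of a Sylow `2`-subgroup on the sections.
-/

set_option autoImplicit false
set_option linter.style.haveILetI false
set_option linter.unusedSectionVars false
set_option maxHeartbeats 800000

namespace Cfsg.Agent.Grp.BryD

open Module Subgroup Cfsg.Agent.Grp.HHExc
open Cfsg.Agent.Grp.Gross (Form Isom mov mem_mov)
open Cfsg.Agent.Grp.Bry (Sec Small Fixes)
open scoped commutatorElement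

universe u v

section Level

variable {K : Type*} [Field K] [CharP K 2] {W : Type*} [AddCommGroup W] [Module K W] {G : Type*} [Group G]
  [Finite G]

/-- A level that fixes the component, on which all later products vanish. -/
theorem exists_level {π : G →* Module.End K W} {P : Subgroup G} (hP : IsPGroup 2 P) {d : ℕ} (hN : Nilp π P d)
    (St : Subgroup G) (p : Module.End K W) (hp : p * p = p) (hp0 : p ≠ 0)
    (hc : ∀ g ∈ St, Commute p (π g)) (hoff : ∀ g ∈ P, g ∉ St → p * π g * p = 0) :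
    ∃ j, j < d ∧ dser P j ≤ St ∧ ∀ f : ℕ → G, (∀ i, f i ∈ dser P (j + i)) → prodOp π f (d - j) * p = 0 := by
  classical
  by_contra hnone
  have inv : ∀ i ≤ d, ∃ f : ℕ → G, (∀ l, f l ∈ dser P l) ∧ p * (prodOp π f i * p) = p ∧
      ∀ g ∈ dser P i, g ∉ St → p * π g * (prodOp π f i * p) = 0 := by
    intro i
    induction i with
    | zero =>
      intro _
      refine ⟨fun _ => 1, fun l => one_mem _, ?_, fun g hg hgS => ?_⟩
      · show p * (1 * p) = p
        rw [one_mul, hp]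
      · show p * π g * (1 * p) = 0
        rw [one_mul]; exact hoff g hg hgS
    | succ i ih =>
      intro hi
      obtain ⟨f, hf, hfp, hfoff⟩ := ih (by omega)
      by_cases hle : dser P i ≤ St
      · exfalso
        refine hnone ⟨i, by omega, hle, fun h hh => ?_⟩
        let f' : ℕ → G := fun l => if l < i then f l else h (l - i)
        have hf' : ∀ l, f' l ∈ dser P l := fun l => by
          show (if l < i then f l else h (l - i)) ∈ _
          split_ifs with hl
          · exact hf l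
          · have := hh (l - i); rwa [show i + (l - i) = l by omega] at this
        have h1 := hN f' hf'
        rw [show d = i + (d - i) by omega, prodOp_split,
          show (fun l => f' (i + l)) = h from funext fun l => by
            show (if i + l < i then f (i + l) else h (i + l - i)) = h l
            rw [if_neg (by omega), Nat.add_sub_cancel_left],
          prodOp_congr π (f := f') (f' := f) fun l hl => if_pos hl] at h1
        have hcs : Commute p (prodOp π h (d - i)) :=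
          commute_prodOp π fun l _ => hc _ (hle (dser_anti P (Nat.le_add_right i l) (hh l)))
        calc prodOp π h (d - i) * p = prodOp π h (d - i) * (p * (prodOp π f i * p)) := by rw [hfp]
          _ = p * (prodOp π h (d - i) * prodOp π f i) * p := by rw [← mul_assoc, ← hcs.eq]; simp only [mul_assoc]
          _ = 0 := by rw [h1, mul_zero, zero_mul]
      obtain ⟨s, hs, hsoff⟩ : ∃ s ∈ dser P i, ∀ g ∈ dser P (i + 1), g * s ∉ St := by
        by_contra hall
        push Not at hall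
        exact hle (dser_le_of_cover hP hall)
      have hsS : s ∉ St := by simpa using hsoff 1 (one_mem _)
      have e : prodOp π (Function.update f i s) (i + 1) = (π s - 1) * prodOp π f i := by
        rw [prodOp_succ, Function.update_self, prodOp_congr π (f' := f) fun l hl =>
          Function.update_of_ne (Nat.ne_of_lt hl) s f]
      refine ⟨Function.update f i s, fun l => ?_, ?_, fun g hg hgS => ?_⟩
      · by_cases hl : l = i
        · subst hl; rwa [Function.update_self]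
        · rw [Function.update_of_ne hl]; exact hf l
      · rw [e, mul_assoc (π s - 1), sub_mul, one_mul, mul_sub, hfp, ← mul_assoc, hfoff s hs hsS, zero_sub, end_neg_eq]
      · rw [e, mul_assoc (π s - 1), sub_mul, one_mul, mul_sub, ← mul_assoc (p * π g), mul_assoc p (π g) (π s),
          ← map_mul,
          hfoff (g * s) (mul_mem (dser_succ_le P i hg) hs) (hsoff g hg),
          hfoff g (dser_succ_le P i hg) hgS, sub_zero]
  obtain ⟨f, hf, hfp, -⟩ := inv d le_rfl
  rw [hN f hf, zero_mul, mul_zero] at hfp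
  exact hp0 hfp.symm

end Level

variable {K : Type*} [Field K] [IsAlgClosed K] [CharP K 2] {V : Type v} [AddCommGroup V] [Module K V]
  [FiniteDimensional K V] {Γ : Type u} [Group Γ] [Finite Γ] {ρ : Γ →* Module.End K V}

/-- On each section the last level is trivial or is an involution moving a plane, fixed by the level before. -/
theorem exists_local (s : Sec ρ) {m : ℕ} (hN : ∀ P : Sylow 2 Γ, Nilp ρ (P : Subgroup Γ) (m + 2)) :
    ∃ (S : Type u) (_ : CommGroup S) (_ : Finite S) (β : S → S → K) (σ : s.st →* MulAut S),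
      Form s.r β ∧ (∀ d, Isom β (σ d)) ∧ (∀ d, σ d = 1 ↔ (d : Γ) ∈ s.ker) ∧
      ∀ P : Sylow 2 Γ, dser (P : Subgroup Γ) (m + 1) ≤ s.st ∧
        ((∀ g ∈ dser (P : Subgroup Γ) (m + 1), g ∈ s.ker) ∨
          dser (P : Subgroup Γ) m ≤ s.st ∧ ∃ c : MulAut S, Small s.r β c ∧
            (∀ g, ∀ hg : g ∈ s.st, g ∈ dser (P : Subgroup Γ) (m + 1) → σ ⟨g, hg⟩ = 1 ∨ σ ⟨g, hg⟩ = c) ∧
            (∀ t, ∀ ht : t ∈ s.st, t ∈ (P : Subgroup Γ) → Commute (σ ⟨t, ht⟩) c) ∧
            ∀ x, ∀ hx : x ∈ s.st, x ∈ dser (P : Subgroup Γ) m → Fixes c (σ ⟨x, hx⟩)) := by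
  classical
  haveI := s.nY
  haveI := s.nZ
  haveI : Fact s.r.Prime := ⟨s.prime⟩
  have hrodd : Odd s.r := s.prime.odd_of_ne_two s.odd
  obtain ⟨S, _, _, β, f, σ, F, hiso, hσ1, hfs, hfk, hβf, hσf⟩ := s.exists_form
  set R := s.rd with hR
  have hRY : R ≤ s.Y := fun a ha => (mem_rad.mp ha).1
  have hω1 := ch_mul ρ s.ne
  have hZR : ∀ z ∈ s.Z, z ∈ R := fun z hz => mem_rad.mpr ⟨s.setting.le hz, fun t ht => by
    rw [commutatorElement_eq_one_iff_mul_comm.mpr (s.setting.central z hz t ht)]; exact hω1.1⟩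
  have hYst : s.Y ≤ s.st := setting_le_stab s.setting s.ω
  have hconjR : ∀ g ∈ s.st, ∀ a ∈ R, g * a * g⁻¹ ∈ R := fun g hg a ha => conj_mem_rad hg ha
  set R' : Subgroup ↥(stab s.Y s.Z s.ω) := R.subgroupOf (stab s.Y s.Z s.ω)
  set ρW := restr (ρ := ρ) s.Y s.Z s.ω
  haveI : Nontrivial ↥(chEigen ρ s.Z s.ω) := Submodule.nontrivial_iff_ne_bot.mpr s.ne
  have hcardR : (Nat.card R : K) ≠ 0 := fun e => s.setting.coprime
    (((CharP.cast_eq_zero_iff K 2 _).mp e).trans (card_dvd_of_le hRY))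
  obtain ⟨χ0, hχ0⟩ : ∃ χ0 : ↥(stab s.Y s.Z s.ω) → K, chEigen ρW R' χ0 ≠ ⊥ := by
    have htop : ⨆ χ : ↥(stab s.Y s.Z s.ω) → K, chEigen ρW R' χ = ⊤ := by
      refine iSup_chEigen_eq_top ρW R' (fun a ha b hb => ?_) ?_
      · refine LinearMap.ext fun v => Subtype.ext ?_
        have hb : (b : Γ) ∈ R := hb
        have ha : (a : Γ) ∈ R := ha
        show ρ (a : Γ) (ρ (b : Γ) v) = ρ (b : Γ) (ρ (a : Γ) v)
        have hc' : ⁅(a : Γ), (b : Γ)⁆ ∈ s.Z := s.setting.comm _ (hRY hb) _ (hRY ha)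
        have h2 : ρ ((a : Γ) * b) = ρ ⁅(a : Γ), (b : Γ)⁆ * ρ ((b : Γ) * a) := by
          rw [← map_mul]; congr 1; simp only [commutatorElement_def]; group
        have hba := hYst (s.Y.mul_mem (hRY hb) (hRY ha))
        rw [← Module.End.mul_apply, ← map_mul, h2, Module.End.mul_apply,
          (mem_chEigen ρ).mp (apply_mem_chEigen ρ hba.2.1 hba.2.2 v.2) _ hc',
          (mem_rad.mp hb).2 _ (hRY ha), one_smul, map_mul, Module.End.mul_apply]
      · rw [show Nat.card R' = Nat.card R from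
          Nat.card_congr (Subgroup.subgroupOfEquivOfLe (show R ≤ stab s.Y s.Z s.ω from hRY.trans hYst)).toEquiv]
        exact hcardR
    by_contra hcon
    push Not at hcon
    exact bot_ne_top (α := Submodule K ↥(chEigen ρ s.Z s.ω)) (by rw [← htop]; simp [hcon])
  obtain ⟨v0, hv0, hv01⟩ := (Submodule.ne_bot_iff _).mp hχ0
  let χ : Γ → K := fun g => if h : g ∈ s.st then χ0 ⟨g, h⟩ else 0
  have hχv : ∀ a ∈ R, ρ a (v0 : V) = χ a • (v0 : V) := fun a ha => by
    show _ = (if h : a ∈ s.st then χ0 ⟨a, h⟩ else 0) • (v0 : V)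
    rw [dif_pos (hYst (hRY ha))]
    exact congrArg Subtype.val ((mem_chEigen ρW).mp hv0 ⟨a, hYst (hRY ha)⟩ ha)
  have hv0' : (v0 : V) ≠ 0 := fun e => hv01 (Subtype.ext e)
  have hv0m : (v0 : V) ∈ chEigen ρ R χ := (mem_chEigen ρ).mpr hχv
  have hχne : chEigen ρ R χ ≠ ⊥ := (Submodule.ne_bot_iff _).mpr ⟨_, hv0m, hv0'⟩
  have hχ1 := ch_mul ρ hχne
  have hχ0' : ∀ a ∈ R, χ a ≠ 0 := fun a ha e => by
    have := ch_inv ρ hχne ha
    rw [e] at this
    simp at this
  have hχZ : ∀ z ∈ s.Z, χ z = s.ω z := fun z hz => by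
    have h1 := hχv z (hZR z hz)
    rw [(mem_chEigen ρ).mp v0.2 _ hz] at h1
    exact (smul_left_injective K hv0' h1).symm
  -- the projection
  haveI := Fintype.ofFinite R
  set p : Module.End K V := (Nat.card R : K)⁻¹ • ∑ g : R, χ ((g : Γ)⁻¹) • ρ g with hpdef
  have hρp : ∀ a ∈ R, ρ a * p = χ a • p := by
    intro a ha
    rw [hpdef, mul_smul_comm, smul_comm (χ a), Finset.mul_sum, Finset.smul_sum (r := χ a)]
    congr 1
    refine Fintype.sum_equiv (Equiv.mulLeft (⟨a, ha⟩ : R)) _ _ fun g => ?_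
    show ρ a * (χ ((g : Γ)⁻¹) • ρ g) = χ a • (χ ((a * (g : Γ))⁻¹) • ρ (a * (g : Γ)))
    rw [mul_smul_comm, ← map_mul, smul_smul, mul_inv_rev, hχ1.2 _ (inv_mem g.2) _ (inv_mem ha), mul_left_comm,
      ch_inv ρ hχne ha, mul_one]
  have hpρ : ∀ a ∈ R, p * ρ a = χ a • p := by
    intro a ha
    rw [hpdef, smul_mul_assoc, smul_comm (χ a), Finset.sum_mul, Finset.smul_sum (r := χ a)]
    congr 1
    refine Fintype.sum_equiv (Equiv.mulRight (⟨a, ha⟩ : R)) _ _ fun g => ?_
    show χ ((g : Γ)⁻¹) • ρ g * ρ a = χ a • (χ (((g : Γ) * a)⁻¹) • ρ ((g : Γ) * a))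
    rw [smul_mul_assoc, ← map_mul, smul_smul, mul_inv_rev, hχ1.2 _ (inv_mem ha) _ (inv_mem g.2), ← mul_assoc,
      ch_inv ρ hχne ha, one_mul]
  have hpp : p * p = p := by
    conv_lhs => rw [hpdef, smul_mul_assoc, Finset.sum_mul]
    rw [Finset.sum_congr rfl fun g _ => by
      rw [smul_mul_assoc, hρp g g.2, smul_smul, mul_comm, ch_inv ρ hχne g.2, one_smul]]
    rw [Finset.sum_const, Finset.card_univ, ← Nat.card_eq_fintype_card, ← Nat.cast_smul_eq_nsmul K, smul_smul,
      inv_mul_cancel₀ hcardR, one_smul]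
  have hpv : ∀ v ∈ chEigen ρ R χ, p v = v := fun v hv => by
    rw [hpdef, LinearMap.smul_apply, LinearMap.sum_apply, Finset.sum_congr rfl fun g _ => by
      rw [LinearMap.smul_apply, (mem_chEigen ρ).mp hv g g.2, smul_smul, mul_comm, ch_inv ρ hχne g.2, one_smul]]
    rw [Finset.sum_const, Finset.card_univ, ← Nat.card_eq_fintype_card, ← Nat.cast_smul_eq_nsmul K, smul_smul,
      inv_mul_cancel₀ hcardR, one_smul]
  have hp0 : p ≠ 0 := fun e => hv0' (by rw [← hpv _ hv0m, e, LinearMap.zero_apply])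
  have hrange : ∀ a ∈ R, ∀ v ∈ LinearMap.range p, ρ a v = χ a • v := by
    rintro a ha _ ⟨v, rfl⟩
    exact LinearMap.congr_fun (hρp a ha) v
  -- the stabilizer of the character
  set St := stab s.Y R χ with hSt
  have hStst : St ≤ s.st := fun g hg => by
    refine mem_stab.mpr ⟨hg.1, by show g ∈ normalizer (s.Z : Set Γ); rw [normalizer_eq_top]; exact mem_top g,
      fun z hz => ?_⟩
    rw [← hχZ _ (s.nZ.conj_mem z hz g), ← hχZ z hz]
    exact hg.2.2 z (hZR z hz)
  have hnormR : ∀ g ∈ s.st, g ∈ normalizer (R : Set Γ) := fun g hg =>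
    mem_normalizer_iff.mpr fun a => ⟨fun ha => hconjR g hg a ha, fun ha => by
      have := hconjR g⁻¹ (inv_mem hg) _ ha
      simpa [mul_assoc] using this⟩
  have hYSt : s.Y ≤ St := fun g hg => by
    refine mem_stab.mpr ⟨Subgroup.le_normalizer hg, hnormR g (hYst hg), fun a ha => ?_⟩
    have hz : ⁅g, a⁆ ∈ s.Z := s.setting.comm _ (hRY ha) _ hg
    rw [show g * a * g⁻¹ = ⁅g, a⁆ * a by simp only [commutatorElement_def]; group,
      hχ1.2 _ (hZR _ hz) _ ha, hχZ _ hz, (mem_rad.mp ha).2 g hg, one_mul]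
  have hcomm : ∀ g ∈ St, Commute p (ρ g) := by
    intro g hg
    show p * ρ g = ρ g * p
    have hgR := hg.2.1
    let e : R ≃ R :=
      { toFun := fun a => ⟨g * a * g⁻¹, (mem_normalizer_iff.mp hgR a).mp a.2⟩
        invFun := fun a => ⟨g⁻¹ * a * g, by simpa using (mem_normalizer_iff.mp (inv_mem hgR) a).mp a.2⟩
        left_inv := fun a => Subtype.ext (by group)
        right_inv := fun a => Subtype.ext (by group) }
    rw [hpdef, smul_mul_assoc, mul_smul_comm, Finset.sum_mul, Finset.mul_sum]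
    congr 1
    refine (Fintype.sum_equiv e _ _ fun a => ?_).symm
    show ρ g * (χ ((a : Γ)⁻¹) • ρ a) = χ ((g * (a : Γ) * g⁻¹)⁻¹) • ρ (g * (a : Γ) * g⁻¹) * ρ g
    rw [mul_smul_comm, smul_mul_assoc, ← map_mul, ← map_mul, show g * (a : Γ) * g⁻¹ * g = g * a by group,
      show (g * (a : Γ) * g⁻¹)⁻¹ = g * (a : Γ)⁻¹ * g⁻¹ by group, hg.2.2 _ (inv_mem a.2)]
  have hoff : ∀ g : Γ, g ∉ St → p * ρ g * p = 0 := by
    intro g hg
    obtain ⟨a, ha, ha', hne⟩ : ∃ a ∈ R, g * a * g⁻¹ ∈ R ∧ χ (g * a * g⁻¹) ≠ χ a := by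
      by_contra hall
      push Not at hall
      refine hg (mem_stab.mpr ⟨?_, ?_, fun a ha => ?_⟩)
      · rw [normalizer_eq_top]; exact mem_top g
      all_goals
        have hgst : g ∈ s.st := mem_stab.mpr ⟨by
          show g ∈ normalizer (s.Y : Set Γ); rw [normalizer_eq_top]; exact mem_top g, by
          show g ∈ normalizer (s.Z : Set Γ); rw [normalizer_eq_top]; exact mem_top g, fun z hz => by
          rw [← hχZ _ (s.nZ.conj_mem z hz g), ← hχZ z hz]
          exact hall z (hZR z hz) (hZR _ (s.nZ.conj_mem z hz g))⟩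
      · exact hnormR g hgst
      · exact hall a ha (hconjR g hgst a ha)
    have h1 : (χ (g * a * g⁻¹) - χ a) • (p * ρ g * p) = 0 := by
      rw [sub_smul, sub_eq_zero, ← smul_mul_assoc, ← smul_mul_assoc, ← hpρ _ ha', mul_assoc p, ← map_mul,
        show g * a * g⁻¹ * g = g * a by group, map_mul, mul_assoc p (ρ g * ρ a), mul_assoc (ρ g), hρp a ha,
        mul_smul_comm, mul_smul_comm, ← mul_assoc, smul_mul_assoc, smul_mul_assoc]
    exact (smul_eq_zero.mp h1).resolve_left (sub_ne_zero.mpr hne)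
  refine ⟨S, inferInstance, inferInstance, β, σ, F, hiso, hσ1, fun P => ?_⟩
  obtain ⟨j, hjm, hjSt, hjk⟩ := exists_level P.isPGroup' (hN P) St p hpp hp0 hcomm (fun g _ hg => hoff g hg)
  have htop : dser (P : Subgroup Γ) (m + 1) ≤ s.st := ((dser_anti _ (by omega)).trans hjSt).trans hStst
  refine ⟨htop, ?_⟩
  by_cases hall : ∀ g ∈ dser (P : Subgroup Γ) (m + 1), g ∈ s.ker
  · exact Or.inl hall
  refine Or.inr ?_
  push Not at hall
  obtain ⟨a, ha, hak⟩ := hall
  -- the system on the component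
  set X := dser (P : Subgroup Γ) j with hX
  set W := LinearMap.range p with hW
  have hXst : X ≤ s.st := hjSt.trans hStst
  have hinv : ∀ g ∈ St, ∀ v ∈ W, ρ g v ∈ W := by
    rintro g hg _ ⟨v, rfl⟩
    exact ⟨ρ g v, LinearMap.congr_fun (hcomm g hg).eq v⟩
  haveI : Nontrivial W := Submodule.nontrivial_iff_ne_bot.mpr fun h => hp0 (LinearMap.range_eq_bot.mp h)
  let σX : X →* MulAut S := σ.comp (Subgroup.inclusion hXst)
  let πX : X →* Module.End K W :=
    { toFun := fun x => (ρ (x : Γ)).restrict (hinv x (hjSt x.2))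
      map_one' := LinearMap.ext fun v => Subtype.ext (by simp [LinearMap.restrict_apply])
      map_mul' := fun a b => LinearMap.ext fun v => Subtype.ext (by simp [LinearMap.restrict_apply]) }
  choose lift hlift using hfs
  let Pv : S → Module.End K W := fun u => (ρ (lift u : Γ)).restrict (hinv _ (hYSt (lift u).2))
  have hshift : ∀ (b c : s.Y), f b = f c → ∃ e : K, e ≠ 0 ∧ ∀ v ∈ W, ρ (b : Γ) v = e • ρ (c : Γ) v := by
    intro b c hbc
    have hk : c⁻¹ * b ∈ f.ker := by rw [MonoidHom.mem_ker, map_mul, map_inv, hbc, inv_mul_cancel]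
    rw [hfk] at hk
    have hk' : (c : Γ)⁻¹ * (b : Γ) ∈ R := hk
    refine ⟨χ ((c : Γ)⁻¹ * (b : Γ)), hχ0' _ hk', fun v hv => ?_⟩
    rw [← map_smul, ← hrange _ hk' v hv, ← Module.End.mul_apply, ← map_mul, mul_inv_cancel_left]
  have hYS : Sys β σX πX Pv := by
    refine ⟨P.isPGroup'.to_le (dser_le _ _), fun x => hiso _, fun u => ?_, fun u v => ?_, fun u v => ?_, fun x u => ?_⟩
    · refine (Module.End.isUnit_iff _).mpr ?_
      have hinj : Function.Injective (Pv u) := fun b c e => Subtype.ext (by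
        have h := congrArg (fun z : W => ρ (lift u : Γ)⁻¹ (z : V)) e
        simpa [Pv, coe_inv_apply] using h)
      exact ⟨hinj, LinearMap.injective_iff_surjective.mp hinj⟩
    · obtain ⟨e, he, h⟩ := hshift (lift u * lift v) (lift (u * v)) (by rw [map_mul, hlift, hlift, hlift])
      refine ⟨e, he, LinearMap.ext fun w => Subtype.ext ?_⟩
      show ρ (lift u : Γ) (ρ (lift v : Γ) w) = e • ρ (lift (u * v) : Γ) w
      rw [← h w w.2, Subgroup.coe_mul, map_mul, Module.End.mul_apply]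
    · refine LinearMap.ext fun w => Subtype.ext ?_
      show ρ (lift u : Γ) (ρ (lift v : Γ) w) = β u v • ρ (lift v : Γ) (ρ (lift u : Γ) w)
      have hz : ⁅(lift u : Γ), (lift v : Γ)⁆ ∈ s.Z := s.setting.comm _ (lift v).2 _ (lift u).2
      rw [← Module.End.mul_apply, ← map_mul, show (lift u : Γ) * lift v =
          ⁅(lift u : Γ), (lift v : Γ)⁆ * ((lift v : Γ) * lift u) by simp only [commutatorElement_def]; group,
        map_mul, Module.End.mul_apply, map_mul, Module.End.mul_apply,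
        hrange _ (hZR _ hz) _ (hinv _ (hYSt (lift v).2) _ (hinv _ (hYSt (lift u).2) _ w.2)), hχZ _ hz,
        ← hβf, hlift, hlift]
    · have hb : (x : Γ) * lift u * (x : Γ)⁻¹ ∈ s.Y := s.nY.conj_mem _ (lift u).2 _
      obtain ⟨e, he, h⟩ := hshift ⟨_, hb⟩ (lift (σX x u)) (by
        rw [hlift, ← hσf ⟨x, hXst x.2⟩ (lift u) ⟨_, hb⟩ rfl, hlift]; rfl)
      refine ⟨e, he, LinearMap.ext fun w => Subtype.ext ?_⟩
      show ρ (x : Γ) (ρ (lift u : Γ) w) = e • ρ (lift (σX x u) : Γ) (ρ (x : Γ) w)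
      rw [← h _ (hinv _ (hjSt x.2) _ w.2)]
      show ρ (x : Γ) (ρ (lift u : Γ) w) = ρ ((x : Γ) * lift u * (x : Γ)⁻¹) (ρ (x : Γ) w)
      rw [← Module.End.mul_apply, ← map_mul, ← Module.End.mul_apply (ρ _), ← map_mul, inv_mul_cancel_right]
  have hNX : Nilp πX (⊤ : Subgroup X) (m + 2 - j) := nilp_sub (φ := X.subtype) (fun x v => rfl) fun h hh v hv => by
    obtain ⟨v', rfl⟩ := hv
    rw [← Module.End.mul_apply]
    refine (LinearMap.congr_fun (hjk (fun i => (h i : Γ)) fun i => ?_) v').trans (LinearMap.zero_apply v')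
    have := coe_mem_dser (hh i)
    rwa [show dser X i = dser (P : Subgroup Γ) (j + i) from dser_add _ j i] at this
  have hpush : ∀ i, ∀ g ∈ dser (P : Subgroup Γ) (j + i), ∃ hg : g ∈ X, (⟨g, hg⟩ : X) ∈ dser (⊤ : Subgroup X) i :=
    fun i g hg => mem_dser_top (by rw [hX, dser_add]; exact hg)
  obtain ⟨haX, ha'⟩ := hpush (m + 2 - j - 1) a (by rwa [show j + (m + 2 - j - 1) = m + 1 by omega])
  obtain ⟨he2, hc9, hsq, hcX, huni, hfix⟩ := local_all (K := K) hrodd (Nat.card S + 1) S β (Nat.lt_succ_self _) F W X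
    σX πX Pv hYS _ hNX ⟨a, haX⟩ ha' fun h => hak ((hσ1 ⟨a, hXst haX⟩).mp h)
  obtain rfl : j = m := by omega
  have hr3 : 3 ≤ s.r := by
    have := s.prime.two_le; have := s.odd; omega
  refine ⟨hXst, σX ⟨a, haX⟩, ⟨hiso _, hsq, hc9.trans (by nlinarith)⟩, fun g hg hgd => ?_, fun t ht htP => ?_,
    fun x hx hxd => hfix ⟨x, hxd⟩⟩
  · obtain ⟨hgX, hg'⟩ := hpush 1 g hgd
    exact huni ⟨g, hgX⟩ hg'
  · have hg : t * a * t⁻¹ ∈ dser (P : Subgroup Γ) (j + 1) := dser_conj_of_mem htP ha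
    obtain ⟨hgX, hg'⟩ := hpush 1 _ hg
    have he : σX ⟨_, hgX⟩ = σ ⟨t, ht⟩ * σX ⟨a, haX⟩ * (σ ⟨t, ht⟩)⁻¹ := by
      rw [← map_inv]
      show σ ⟨t * a * t⁻¹, _⟩ = σ ⟨t, ht⟩ * σ ⟨a, _⟩ * σ ⟨t, ht⟩⁻¹
      rw [← map_mul, ← map_mul]; rfl
    rcases huni ⟨_, hgX⟩ hg' with h | h
    · exfalso
      rw [he] at h
      exact hak ((hσ1 ⟨a, hXst haX⟩).mp (conj_eq_one_iff.mp h))
    · rw [he] at h
      exact mul_inv_eq_iff_eq_mul.mp h

end Cfsg.Agent.Grp.BryD
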