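import Mathlib
import Cfsg.Agent.Lib.Grp.BryTwo.Main
import Cfsg.Agent.Lib.Grp.BryDer.SecLocal
import Cfsg.Agent.Lib.Grp.BryDer.Kernel

/-!
The deep levels split every layer, and the iterated commutators fall on both parts.
-/

set_option autoImplicit false
set_option linter.style.haveILetI false
set_option linter.unusedSectionVars false

namespace Cfsg.Agent.Grp.BryD

open Module Subgroup
open Cfsg.Agent.Grp.Bry (K2 Sec Base Admis next secStab)
open scoped commutatorElement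

universe u

variable {H : Type u} [Group H] [Finite H] {W : Type u} [AddCommGroup W] [Module K2 W] [FiniteDimensional K2 W]
  {ρ : H →* Module.End K2 W} {n m : ℕ} {C0 L M : Subgroup H}

/-- The part of a layer coming from the deep levels. -/
noncomputable def deep (ρ : H →* Module.End K2 W) (m : ℕ) (L M : Subgroup H) : Subgroup H :=
  closure {g : H | g ∈ M ∧ ∃ P : Sylow 2 H, g ∈ dser (P : Subgroup H) (m + 1)} ⊔ next ρ L M

theorem deep_le : deep ρ m L M ≤ M :=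
  sup_le ((closure_le _).mpr fun _ hg => hg.1) inf_le_left

theorem deep_normal (hb : Base ρ n C0 L) (hM : M.Normal) : (deep ρ m L M).Normal := by
  haveI := Bry.next_normal hb hM
  haveI : (closure {g : H | g ∈ M ∧ ∃ P : Sylow 2 H, g ∈ dser (P : Subgroup H) (m + 1)}).Normal := by
    refine ⟨fun g hg h => ?_⟩
    have h1 : (closure {g : H | g ∈ M ∧ ∃ P : Sylow 2 H, g ∈ dser (P : Subgroup H) (m + 1)}).map
        (MulAut.conj h).toMonoidHom ≤ closure {g : H | g ∈ M ∧ ∃ P : Sylow 2 H, g ∈ dser (P : Subgroup H) (m + 1)} := by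
      rw [MonoidHom.map_closure]
      refine closure_mono ?_
      rintro _ ⟨y, ⟨hyM, P, hyP⟩, rfl⟩
      refine ⟨hM.conj_mem y hyM h, Sylow.mapSurjective (f := (MulAut.conj h).toMonoidHom) (MulAut.conj h).surjective P, ?_⟩
      show (MulAut.conj h).toMonoidHom y ∈ dser ((P : Subgroup H).map (MulAut.conj h).toMonoidHom) (m + 1)
      rw [← map_dser]
      exact ⟨y, hyP, rfl⟩
    exact h1 ⟨g, hg, rfl⟩
  unfold deep
  infer_instance

/-- Iterated commutators do not see the odd part. -/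
theorem itc_mod (hb : Base ρ n C0 L) (P : Sylow 2 H) (f : ℕ → H) (hC : C0 ≤ M) (hML : M ≤ L) {g : H} (hg : g ∈ M) :
    ∃ t ∈ (P : Subgroup H) ⊓ M, ∀ k, ∃ c ∈ C0, itc f g k = itc f t k * c := by
  obtain ⟨t, ht, c0, hc0, rfl⟩ := hb.exists_decomp P (hML hg)
  haveI := hb.nC
  have htM : t ∈ M := by
    have := M.mul_mem hg (M.inv_mem (hC hc0))
    rwa [mul_inv_cancel_right] at this
  refine ⟨t, ⟨ht.1, htM⟩, fun k => ⟨(itc f t k)⁻¹ * itc f (t * c0) k, ?_, (mul_inv_cancel_left _ _).symm⟩⟩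
  refine QuotientGroup.eq.mp ?_
  show QuotientGroup.mk' C0 (itc f t k) = QuotientGroup.mk' C0 (itc f (t * c0) k)
  rw [map_itc, map_itc, map_mul, show QuotientGroup.mk' C0 c0 = 1 from (QuotientGroup.eq_one_iff _).mpr hc0, mul_one]

theorem itc_mem_deep (hb : Base ρ n C0 L) (hMn : M.Normal) (hC : C0 ≤ M) (hML : M ≤ L) (P : Sylow 2 H)
    {f : ℕ → H} (hf : ∀ i, f i ∈ dser (P : Subgroup H) i) {g : H} (hg : g ∈ M) :
    itc f g (m + 1) ∈ deep ρ m L M := by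
  obtain ⟨t, ht, hk⟩ := itc_mod hb P f hC hML hg
  obtain ⟨c, hc, e⟩ := hk (m + 1)
  rw [e]
  exact mul_mem (mem_sup_left (subset_closure ⟨itc_mem hMn f ht.2 _, P, itc_mem_dser hf ht.1 _⟩))
    (mem_sup_right (Bry.le_next hb hC hc))

theorem itc_mem_next (hb : Base ρ n C0 L) (hN : ∀ P : Sylow 2 H, Nilp ρ (P : Subgroup H) (m + 2))
    (hMn : M.Normal) (hC : C0 ≤ M) (hML : M ≤ L) (P : Sylow 2 H) {f : ℕ → H}
    (hf : ∀ i, f i ∈ dser (P : Subgroup H) i) {g : H} (hg : g ∈ deep ρ m L M) :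
    itc f g (m + 1) ∈ next ρ L M := by
  classical
  haveI : Fact (Nat.Prime 2) := ⟨Nat.prime_two⟩
  haveI hDn := Bry.next_normal hb hMn
  haveI := hb.nC
  refine Bry.mem_next.mpr ⟨itc_mem hMn f (deep_le hg) _, fun B hB => ?_⟩
  obtain ⟨s, hs⟩ := hB.ker
  haveI : Fact s.r.Prime := ⟨s.prime⟩
  have hrodd : Odd s.r := s.prime.odd_of_ne_two s.odd
  have hLs : L ≤ s.st := fun l hl => Bry.mem_secStab.mp (hb.st hl) s
  have hC0B : C0 ≤ B := (Bry.le_next hb hC).trans (Bry.next_le_admis hB)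
  obtain ⟨S, _, _, β, σ, hF, hiso, hσ, hloc⟩ := exists_local s hN
  obtain ⟨-, htriv | ⟨hmst, c, hcs, hcu, hcc, hcf⟩⟩ := hloc P
  · obtain ⟨t, ht, hk⟩ := itc_mod hb P f hC hML (deep_le hg)
    obtain ⟨c0, hc0, e⟩ := hk (m + 1)
    rw [e]
    exact B.mul_mem (hs ⟨itc_mem hMn f ht.2 _, htriv _ (itc_mem_dser hf ht.1 _)⟩) (hC0B hc0)
  rw [itc_succ]
  set x := f m
  have hxd : x ∈ dser (P : Subgroup H) m := hf m
  have hxst : x ∈ s.st := hmst hxd
  have hxP : x ∈ (P : Subgroup H) := dser_le _ _ hxd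
  have key : ∀ y ∈ deep ρ m L M, x * y * x⁻¹ * y⁻¹ ∈ B := by
    intro y hy
    have hsplit : ∀ y1 y2 : H, y1 ∈ L → x * y1 * x⁻¹ * y1⁻¹ ∈ B → x * y2 * x⁻¹ * y2⁻¹ ∈ B →
        x * (y1 * y2) * x⁻¹ * (y1 * y2)⁻¹ ∈ B := fun y1 y2 hy1 h1 h2 => by
      rw [show x * (y1 * y2) * x⁻¹ * (y1 * y2)⁻¹ =
        (x * y1 * x⁻¹ * y1⁻¹) * (y1 * (x * y2 * x⁻¹ * y2⁻¹) * y1⁻¹) by group]
      exact B.mul_mem h1 (hB.inv y1 hy1 _ h2)
    obtain ⟨v, hv, d, hd, rfl⟩ := mem_sup_of_normal_right.mp hy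
    have hdB : x * d * x⁻¹ * d⁻¹ ∈ B :=
      Bry.next_le_admis hB ((next ρ L M).mul_mem (hDn.conj_mem d hd x) (inv_mem hd))
    suffices hvB : v ∈ L ∧ x * v * x⁻¹ * v⁻¹ ∈ B from hsplit v d hvB.1 hvB.2 hdB
    clear hy hdB
    induction hv using Subgroup.closure_induction with
    | one => exact ⟨one_mem _, by rw [mul_one, inv_one, mul_one, mul_inv_cancel]; exact one_mem _⟩
    | mul v1 v2 _ _ ih1 ih2 => exact ⟨mul_mem ih1.1 ih2.1, hsplit v1 v2 ih1.1 ih1.2 ih2.2⟩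
    | inv v1 _ ih =>
      refine ⟨inv_mem ih.1, ?_⟩
      rw [show x * v1⁻¹ * x⁻¹ * v1⁻¹⁻¹ = v1⁻¹ * (x * v1 * x⁻¹ * v1⁻¹)⁻¹ * v1⁻¹⁻¹ by group]
      exact hB.inv _ (inv_mem ih.1) _ (inv_mem ih.2)
    | mem h hh =>
      obtain ⟨hhM, P', hhP⟩ := hh
      refine ⟨hML hhM, ?_⟩
      obtain ⟨c0, hc0, hcP⟩ := hb.exists_conj P (hML hhM) (Bry.isPGroup_mul_mem P'.isPGroup' (dser_le _ _ hhP))
      set h' := c0 * h * c0⁻¹ with hh'
      have hh'M : h' ∈ M := hMn.conj_mem h hhM c0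
      have hh'st : h' ∈ s.st := hLs (hML hh'M)
      have hcomm : Commute (σ ⟨x, hxst⟩) (σ ⟨h', hh'st⟩) := by
        set P'' := Sylow.mapSurjective (f := (MulAut.conj c0).toMonoidHom) (MulAut.conj c0).surjective P' with hP''
        have hh'P : h' ∈ dser (P'' : Subgroup H) (m + 1) := by
          show h' ∈ dser ((P' : Subgroup H).map (MulAut.conj c0).toMonoidHom) (m + 1)
          rw [← map_dser]
          exact ⟨h, hhP, rfl⟩
        obtain ⟨-, h'' | ⟨-, c', hc's, hc'u, -, -⟩⟩ := hloc P''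
        · rw [(hσ ⟨h', hh'st⟩).mpr (h'' h' hh'P)]; exact Commute.one_right _
        rcases hc'u h' hh'st hh'P with e | e
        · rw [e]; exact Commute.one_right _
        have hh'c : Commute (σ ⟨h', hh'st⟩) c := hcc h' hh'st hcP
        rw [e] at hh'c ⊢
        rcases Bry.eq_or_orth hF hrodd hcs hc's hh'c.symm with e' | ⟨h1, h2⟩
        · rw [← e']; exact hcc x hxst hxP
        · exact Bry.commute_of_fix hF hrodd hcs.sq hc's.sq (hcf x hxst hxd) (Bry.Fixes.refl c')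
            (hcc x hxst hxP) (Commute.refl c') h2 h1
      have h1 : x * h' * x⁻¹ * h'⁻¹ ∈ B := by
        have hst1 : x * h' * x⁻¹ * h'⁻¹ ∈ s.st := mul_mem (mul_mem (mul_mem hxst hh'st) (inv_mem hxst)) (inv_mem hh'st)
        refine hs ⟨M.mul_mem (hMn.conj_mem _ hh'M x) (M.inv_mem hh'M), (hσ ⟨_, hst1⟩).mp ?_⟩
        rw [show (⟨x * h' * x⁻¹ * h'⁻¹, hst1⟩ : s.st) = ⁅(⟨x, hxst⟩ : s.st), ⟨h', hh'st⟩⁆ from rfl,
          map_commutatorElement, commutatorElement_eq_one_iff_mul_comm]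
        exact hcomm.eq
      have h2 : (x * h' * x⁻¹ * h'⁻¹)⁻¹ * (x * h * x⁻¹ * h⁻¹) ∈ C0 := by
        have hπ : QuotientGroup.mk' C0 h' = QuotientGroup.mk' C0 h := by
          rw [hh', map_mul, map_mul, map_inv, show QuotientGroup.mk' C0 c0 = 1 from (QuotientGroup.eq_one_iff _).mpr hc0]
          group
        refine QuotientGroup.eq.mp ?_
        show QuotientGroup.mk' C0 _ = QuotientGroup.mk' C0 _
        simp only [map_mul, map_inv, hπ]
      have h3 := B.mul_mem h1 (hC0B h2)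
      rwa [mul_inv_cancel_left] at h3
  exact key _ (itc_mem (deep_normal hb hMn) f hg m)

/-- Elements of odd order of a suitable subgroup centralize every layer. -/
theorem layers (hB : BDStmt.{u} m) (hH : Cfsg.IsPSolvable 2 H) (hb : Base ρ n C0 L)
    (hN : ∀ P : Sylow 2 H, Nilp ρ (P : Subgroup H) (m + 2)) :
    ∀ M : Subgroup H, M.Normal → C0 ≤ M → M ≤ L →
      ∃ (N : Subgroup H) (_ : N.Normal), Cfsg.PLengthLE 2 m (H ⧸ N) ∧
        ∀ y ∈ N, Odd (orderOf y) → ∀ g ∈ M, y * g * y⁻¹ * g⁻¹ ∈ C0 := by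
  refine Bry.layers_of hb fun M hMn hC hML _ => ?_
  haveI hDn : (next ρ L M).Normal := Bry.next_normal hb hMn
  haveI hFn : (deep ρ m L M).Normal := deep_normal hb hMn
  have hDF : next ρ L M ≤ deep ρ m L M := le_sup_right
  have hcommD : ∀ a ∈ M, ∀ b ∈ M, a * b * a⁻¹ * b⁻¹ ∈ next ρ L M := fun a ha b hb' => Bry.comm_mem_next ha hb'
  obtain ⟨N1, hN1, hl1, hk1⟩ := sec_kernel hB hH hMn hFn deep_le (fun a ha b hb' => hDF (hcommD a ha b hb'))
    (fun a ha => hDF (Bry.sq_mem_next ha)) (fun P f hf g hg => itc_mem_deep hb hMn hC hML P hf hg)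
  obtain ⟨N2, hN2, hl2, hk2⟩ := sec_kernel hB hH hFn hDn hDF
    (fun a ha b hb' => hcommD a (deep_le ha) b (deep_le hb')) (fun a ha => Bry.sq_mem_next (deep_le ha))
    (fun P f hf g hg => itc_mem_next hb hN hMn hC hML P hf hg)
  exact ⟨_, deep_le, N1, hN1, N2, hN2, hl1, hl2, hk1, hk2⟩

end Cfsg.Agent.Grp.BryD
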