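import Mathlib
import Cfsg.Agent.Lib.Grp.BryTwo.Main
import Cfsg.Agent.Lib.Grp.BryDer.Layers

/-!
The derived length of a Sylow `2`-subgroup bounds the `2`-length.
-/

set_option autoImplicit false
set_option linter.style.haveILetI false
set_option linter.unusedSectionVars false

namespace Cfsg.Agent.Grp.BryD

open Module Subgroup
open Cfsg.Agent.Grp.Bry (K2 Sec Base secStab Def2 sub_one_pow_two_pow isSolvable_of_two pLengthLE_glue
  eq_one_of_forall_ker)
open scoped commutatorElement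

universe u

/-- The bound for groups with a Sylow subgroup of derived length at most `n`. -/
def TDStmt (n : ℕ) : Prop :=
  ∀ (G : Type u) [Group G] [Finite G], Cfsg.IsPSolvable 2 G →
    (∀ P : Sylow 2 G, dser (P : Subgroup G) n = ⊥) → Cfsg.PLengthLE 2 n G

theorem bd_zero : BDStmt.{u} 0 := by
  haveI : Fact (Nat.Prime 2) := ⟨Nat.prime_two⟩
  intro H _ _ W _ _ _ ρ hρ _ _ hN
  refine HHP.pLengthLE_zero_of_exponent fun P x hx => ?_
  have h' := hN P (fun i => if i = 0 then x else 1) (fun i => by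
    rcases i with _ | i
    · exact hx
    · exact one_mem _)
  rw [prodOp_succ, show prodOp ρ (fun i : ℕ => if i = 0 then x else 1) 0 = 1 from rfl, mul_one, sub_eq_zero,
    ← map_one ρ] at h'
  rw [pow_zero, pow_one]
  exact hρ h'

theorem td_zero : TDStmt.{u} 0 := by
  haveI : Fact (Nat.Prime 2) := ⟨Nat.prime_two⟩
  intro G _ _ _ hd
  refine HHP.pLengthLE_zero_of_exponent fun P x hx => ?_
  rw [pow_zero, pow_one]
  exact mem_bot.mp (hd P ▸ hx)

theorem td_succ {m : ℕ} (hB : BDStmt.{u} m) : TDStmt.{u} (m + 1) := by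
  haveI : Fact (Nat.Prime 2) := ⟨Nat.prime_two⟩
  intro G _ _ hG hd
  classical
  obtain ⟨Γ, V, _, _, _, _, q, ι, χ, hq, hι, hχ, hV, -, hker, hO, -⟩ := HHP.exists_action (p := 2) hG
  obtain ⟨W, _, _, _, L, hL, -, -, hLl⟩ := HHExc.exists_linearization (p := 2) hV
  obtain ⟨H, hH⟩ : ∃ H, H = (χ.comp q).range := ⟨_, rfl⟩
  let f : G →* H := (χ.comp q).codRestrict H (fun g => hH ▸ ⟨g, rfl⟩)
  have hf : Function.Surjective f := fun ⟨y, hy⟩ => by
    rw [hH] at hy
    obtain ⟨g, rfl⟩ := hy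
    exact ⟨g, rfl⟩
  have hfk : f.ker ≤ uSer 2 G 2 := fun g hg => hker (congrArg Subtype.val (MonoidHom.mem_ker.mp hg))
  have hHs : Cfsg.IsPSolvable 2 H := isPSolvable_map hG f hf
  have hOH : Cfsg.pCore 2 H = ⊥ := by subst hH; exact hO
  have hN : ∀ Q : Sylow 2 H, Nilp (L.comp H.subtype) (Q : Subgroup H) (m + 1) := by
    intro Q y hy
    obtain ⟨P, rfl⟩ := Sylow.mapSurjective_surjective hf 2 Q
    have hpre : ∀ i, ∃ a ∈ dser (P : Subgroup G) i, f a = y i := fun i => by
      have h1 : y i ∈ (dser (P : Subgroup G) i).map f := by rw [map_dser]; exact hy i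
      exact h1
    choose a ha hay using hpre
    have hι2 : ι.range ≤ (P : Subgroup G).map q := by
      have hn : ι.range.Normal := ⟨fun z ⟨w, hw⟩ g => ⟨χ g w, by rw [hχ, hw]⟩⟩
      have hVp : IsPGroup 2 ι.range := by
        rintro ⟨_, w, rfl⟩
        exact ⟨1, Subtype.ext (by show ι w ^ 2 ^ 1 = 1; rw [pow_one, ← map_pow, hV, map_one])⟩
      exact (le_pCore hn hVp).trans (pCore_le_sylow (P.mapSurjective hq))
    have key : ∀ k (v : V), ι (((List.range k).reverse.map fun i => χ (q (a i))).foldr (fun φ w => φ w / w) v) =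
        itc (fun i => q (a i)) (ι v) k := by
      intro k
      induction k with
      | zero => intro v; rfl
      | succ k ih =>
        intro v
        rw [List.range_succ, List.reverse_append, List.map_append, List.foldr_append]
        simp only [List.reverse_cons, List.reverse_nil, List.nil_append, List.map_cons, List.map_nil,
          List.foldr_cons, List.foldr_nil]
        rw [map_div, hχ, ih v, div_eq_mul_inv, itc_succ]
    rw [prodOp_list, show (fun i => (L.comp H.subtype) (y i) - 1) = (fun φ => L φ - 1) ∘ (fun i => χ (q (a i)))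
      from funext fun i => by rw [← hay i]; rfl, ← List.map_map]
    refine hLl _ fun v => hι ?_
    rw [key, map_one]
    have h1 := itc_mem_dser (P := (P : Subgroup G).map q) (f := fun i => q (a i))
      (fun i => by rw [← map_dser]; exact ⟨a i, ha i, rfl⟩) (hι2 ⟨v, rfl⟩) (m + 1)
    rw [← map_dser, hd P, Subgroup.map_bot] at h1
    exact mem_bot.mp h1
  have hl := hB H W (L.comp H.subtype) (hL.comp H.subtype_injective) hHs hOH hN
  haveI : (uSer 2 G 2).Normal := (Cfsg.upperPSeries 2 G 2).2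
  let g : H →* G ⧸ uSer 2 G 2 := f.liftOfSurjective hf ⟨QuotientGroup.mk' _, by rwa [QuotientGroup.ker_mk']⟩
  have hg : Function.Surjective g := fun q' => by
    obtain ⟨b, rfl⟩ := QuotientGroup.mk'_surjective _ q'
    exact ⟨f b, f.liftOfRightInverse_comp_apply _ (Function.rightInverse_surjInv hf) _ b⟩
  rw [show m + 1 = 1 + m by ring]
  exact pLengthLE_extension (uSer 2 G 2) (a := 1) (uSer_mono (by norm_num)) (pLengthLE_of_surjective g hg hl)

/-- The last level of every Sylow subgroup stabilizes all sections. -/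
theorem dser_le_secStab {H : Type u} [Group H] [Finite H] {W : Type u} [AddCommGroup W] [Module K2 W]
    [FiniteDimensional K2 W] {ρ : H →* Module.End K2 W} {m : ℕ}
    (hN : ∀ P : Sylow 2 H, Nilp ρ (P : Subgroup H) (m + 2)) (P : Sylow 2 H) :
    dser (P : Subgroup H) (m + 1) ≤ secStab ρ := fun g hg => Bry.mem_secStab.mpr fun s => by
  obtain ⟨S, _, _, β, σ, -, -, -, hloc⟩ := exists_local s hN
  exact (hloc P).1 hg

theorem bd_succ {m : ℕ} (hB : BDStmt.{u} m) (hT : TDStmt.{u} (m + 1)) : BDStmt.{u} (m + 1) := by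
  haveI : Fact (Nat.Prime 2) := ⟨Nat.prime_two⟩
  intro H _ _ W _ _ _ ρ hρ hH hO hN
  classical
  haveI := isSolvable_of_two hH
  obtain ⟨n, hn⟩ : ∃ n, n = Nat.card H := ⟨_, rfl⟩
  have hpow : ∀ x : H, IsPGroup 2 (zpowers x) → x ^ 2 ^ n = 1 := by
    intro x hx
    obtain ⟨k, hk⟩ := hx.exists_card_eq
    rw [Nat.card_zpowers] at hk
    have hk' : k ≤ n := by
      have h1 : k < 2 ^ k := Nat.lt_two_pow_self
      have h2 : orderOf x ≤ n := hn ▸ orderOf_le_card
      omega
    refine orderOf_dvd_iff_pow_eq_one.mp ?_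
    rw [hk]
    exact pow_dvd_pow 2 hk'
  have hdef : Def2 ρ n := fun x hx => by
    refine ⟨by rw [pow_succ, pow_mul, hpow x hx, one_pow], pow_eq_zero_of_le (m := 2 ^ n) ?_ ?_⟩
    · have := Nat.one_le_two_pow (n := n)
      rw [pow_succ]; omega
    · rw [sub_one_pow_two_pow, ← map_pow, hpow x hx, map_one, sub_self]
  set C := Cfsg.pPrimeCore 2 H with hCdef
  haveI hCn : C.Normal := pPrimeCore_isNormal
  set π := QuotientGroup.mk' C with hπ
  set K0H := secStab ρ with hK0H
  haveI : (Cfsg.pCore 2 (H ⧸ C)).Normal := pCore_isNormal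
  set L := (Cfsg.pCore 2 (H ⧸ C)).comap π ⊓ K0H with hLdef
  haveI hLn : L.Normal := inferInstance
  set C0 := C ⊓ K0H with hC0def
  haveI hC0n : C0.Normal := inferInstance
  have hπC : ∀ g ∈ C, π g = 1 := fun g hg => (QuotientGroup.eq_one_iff g).mpr hg
  have hb : Base ρ n C0 L := by
    refine ⟨hdef, hC0n, hLn, fun g hg => ⟨?_, hg.2⟩, inf_le_right, fun h => pPrimeCore_not_dvd
      (h.trans (card_dvd_of_le inf_le_left)), fun g hg => ?_, fun x hx => ?_,
      fun t _ ht hker => eq_one_of_forall_ker hρ hO ht hker⟩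
    · show π g ∈ Cfsg.pCore 2 (H ⧸ C)
      rw [hπC g hg.1]; exact one_mem _
    · obtain ⟨k, hk⟩ := pCore_isPGroup (⟨π g, hg.1⟩ : Cfsg.pCore 2 (H ⧸ C))
      refine ⟨k, (QuotientGroup.eq_one_iff _).mp ?_, Subgroup.pow_mem _ hg.2 _⟩
      exact congrArg Subtype.val hk
    · rw [hpow x hx]; exact one_mem _
  obtain ⟨N, hNn, hlN, hkN⟩ := layers hB hH hb hN L hLn hb.le le_rfl
  refine pLengthLE_glue hH K0H (hT _ (isPSolvable_map hH (QuotientGroup.mk' K0H) (QuotientGroup.mk'_surjective _))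
    fun Q => ?_) N hlN hkN
  obtain ⟨P, rfl⟩ := Sylow.mapSurjective_surjective (QuotientGroup.mk'_surjective K0H) 2 Q
  show dser ((P : Subgroup H).map (QuotientGroup.mk' K0H)) (m + 1) = ⊥
  rw [← map_dser, Subgroup.map_eq_bot_iff, QuotientGroup.ker_mk']
  exact dser_le_secStab hN P

theorem stmt_all : ∀ n : ℕ, BDStmt.{u} n ∧ TDStmt.{u} n
  | 0 => ⟨bd_zero, td_zero⟩
  | n + 1 => ⟨bd_succ (stmt_all n).1 (td_succ (stmt_all n).1), td_succ (stmt_all n).1⟩

/-- The derived length of a Sylow `2`-subgroup bounds the `2`-length. -/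
theorem pLengthLE_derived_two {G : Type u} [Group G] [Finite G] (hG : Cfsg.IsPSolvable 2 G) (d : ℕ)
    (hd : ∀ P : Sylow 2 G, derivedSeries (P : Subgroup G) d = ⊥) : Cfsg.PLengthLE 2 d G :=
  (stmt_all d).2 G hG fun P => by rw [dser_eq_map, hd P, Subgroup.map_bot]

end Cfsg.Agent.Grp.BryD
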